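import Cfsg.Agent.MCE.Blk
import Cfsg.Agent.SR3.Basic

/-! Project MCE: a subgroup of maximal class inside an ambient group. -/

set_option autoImplicit false

namespace Cfsg.Agent.MCF

open Subgroup Cfsg.Agent.H62 Cfsg.Agent.SR3
open Cfsg.Agent.MCE (blk blk_exc)
open scoped commutatorElement

universe u

variable {G : Type u} [Group G] {p n i j k m : ℕ} {S E : Subgroup G} {a b e g s x y : G}

/-- The lower central series in the ambient group. -/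
def Ga (S : Subgroup G) (k : ℕ) : Subgroup G := (LL S k).map S.subtype

/-- The two-step centralizers in the ambient group. -/
def Ka (S : Subgroup G) (k : ℕ) : Subgroup G := (KK S k).map S.subtype

theorem coe_Ga {x : S} : (x : G) ∈ Ga S k ↔ x ∈ LL S k := mem_map_iff_mem S.subtype_injective

theorem coe_Ka {x : S} : (x : G) ∈ Ka S k ↔ x ∈ KK S k := mem_map_iff_mem S.subtype_injective

theorem Ga_le : Ga S k ≤ S := map_subtype_le _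

theorem Ka_le : Ka S k ≤ S := map_subtype_le _

theorem Ga_zero (hx : x ∈ S) : x ∈ Ga S 0 := ⟨⟨x, hx⟩, mem_top _, rfl⟩

theorem Ga_anti (h : i ≤ j) : Ga S j ≤ Ga S i := map_mono (LL_anti h)

theorem Ga_comm (ha : a ∈ Ga S i) (hb : b ∈ Ga S j) (h : m ≤ i + j + 1) : ⁅a, b⁆ ∈ Ga S m := by
  obtain ⟨a, ha, rfl⟩ := ha
  obtain ⟨b, hb, rfl⟩ := hb
  exact Ga_anti h ⟨_, LL_comm ha hb, rfl⟩

theorem Ga_comm' (ha : a ∈ Ga S i) (hb : b ∈ S) (h : m ≤ i + 1) : ⁅a, b⁆ ∈ Ga S m :=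
  Ga_comm ha (Ga_zero hb) h

theorem nm_Ga : S ≤ nm (Ga S k) :=
  le_nm_of_comm fun _ hg _ hx => comm_symm (Ga_comm' hx hg (Nat.le_succ k))

theorem Ga_St (h : m ≤ i + j + 1) : Ga S i ≤ St (Ga S j) (Ga S m) :=
  le_St (Ga_le.trans nm_Ga) fun _ ha _ hb => Ga_comm ha hb h

theorem S_St (h : m ≤ j + 1) : S ≤ St (Ga S j) (Ga S m) := fun _ hx =>
  Ga_St (i := 0) (by omega) (Ga_zero hx)

theorem St_S (h : m ≤ j + 1) : Ga S j ≤ St S (Ga S m) := le_St_symm (S_St h) (Ga_le.trans nm_Ga)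

theorem mem_Ka : g ∈ Ka S k ↔ g ∈ S ∧ ∀ y ∈ Ga S k, ⁅y, g⁆ ∈ Ga S (k + 2) := by
  refine ⟨?_, fun ⟨h1, h2⟩ => ⟨⟨g, h1⟩, fun y hy => coe_Ga.1 (h2 y (coe_Ga.2 hy)), rfl⟩⟩
  rintro ⟨g, hg, rfl⟩
  refine ⟨g.2, ?_⟩
  rintro _ ⟨y, hy, rfl⟩
  exact ⟨_, hg y hy, rfl⟩

theorem Ga_le_Ka : Ga S 1 ≤ Ka S k := map_mono (LL_one_le_KK k)

theorem nm_Ka : S ≤ nm (Ka S k) :=
  le_nm_of_comm fun _ hg _ hx => Ga_le_Ka (Ga_comm' (Ga_zero hg) (Ka_le hx) le_rfl)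

variable [Finite G] [hp : Fact p.Prime] (h : MC S p n)
include h

theorem card_Ga (h1 : 1 ≤ k) (h2 : k + m + 1 = n) : Nat.card (Ga S k) = p ^ m := by
  rw [Ga, card_map_of_injective S.subtype_injective, h.card_LL h1 (by omega)]
  congr 1; omega

theorem Ga_one (hk : n ≤ k + 1) (hx : x ∈ Ga S k) : x = 1 := by
  rwa [Ga, h.LL_eq_bot (by omega), Subgroup.map_bot, mem_bot] at hx

theorem card_Ga_le (h1 : 1 ≤ k) : Nat.card (Ga S k) ≤ p * Nat.card (Ga S (k + 1)) := by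
  rw [Ga, Ga, card_map_of_injective S.subtype_injective, card_map_of_injective S.subtype_injective]
  exact h.card_LL_succ_le h1

theorem Ga_exists (hk : k + 2 ≤ n) : ∃ y ∈ Ga S k, y ∉ Ga S (k + 1) := by
  obtain ⟨y, h1, h2⟩ := h.exists_not_mem hk
  exact ⟨y, coe_Ga.2 h1, coe_Ga.not.2 h2⟩

theorem Ka_blk (hk : 1 ≤ k) (hk' : k + 4 ≤ n) : Ka S k = Ka S 1 := by rw [Ka, blk h hk hk', Ka]

theorem Ka_exc (h4 : 4 ≤ n) (hne : ¬ Ka S 1 ≤ Ka S (n - 3)) :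
    Even n ∧ ∃ a ∈ Ga S 1, ∃ b ∈ Ga S (n - 4), ⁅a, b⁆ ≠ 1 := by
  obtain ⟨h1, a, ha, b, hb, c⟩ := blk_exc h h4 fun c => hne (map_mono c)
  exact ⟨h1, a, coe_Ga.2 ha, b, coe_Ga.2 hb, fun c' => c (Subtype.ext c')⟩

theorem card_Ka (hk : 1 ≤ k) (hk' : k + 3 ≤ n) : Nat.card (Ka S k) = p ^ (n - 1) := by
  rw [Ka, card_map_of_injective S.subtype_injective, h.card_KK hk hk']

theorem Ka_ne (hk : k + 3 ≤ n) : ¬ S ≤ Ka S k := fun c =>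
  h.KK_ne_top hk (eq_top_iff.2 fun x _ => coe_Ka.1 (c x.2))

theorem unif_of {s : S} (hs : (s : G) ∉ Ka S 1) (hm : m + 2 ≤ n) : Unif s m := fun k hk c => by
  rcases Nat.eq_zero_or_pos k with rfl | k0
  · exact hs (coe_Ka.2 (LL_one_le_KK 1 (h.KK_zero ▸ c)))
  · exact hs (coe_Ka.2 (blk h k0 (by omega) ▸ c))

theorem card_le_sq (hs : s ∈ S) (h1 : s ∉ Ka S 1) (h2 : s ∉ Ka S (n - 3)) (hE : E ≤ S)
    (hc : s ∈ ce E) : Nat.card E ≤ p ^ 2 := by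
  lift s to S using hs
  have h3 := h.three_le
  have hu : Unif s (n - 1) := fun k hk c => by
    by_cases e : k = n - 3
    · exact h2 (coe_Ka.2 (e ▸ c))
    · exact unif_of h h1 (m := n - 2) (by omega) k (by omega) c
  rw [← Nat.card_congr (subgroupOfEquivOfLe hE).toEquiv]
  exact (card_le_of_le fun x hx => mem_centralizer_singleton_iff.2
    (Subtype.ext (mem_ce.1 hc x hx))).trans (h.card_centralizer_le hu)

theorem Ka_comm (hk1 : 1 ≤ k) (hk : k + 3 ≤ n) (hs : s ∈ S) (hs' : s ∉ Ka S k) (hx : x ∈ Ka S k)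
    (hc : ⁅x, s⁆ ∈ Ga S 2) : x ∈ Ga S 1 := by
  lift s to S using hs
  obtain ⟨x, hx, rfl⟩ := hx
  by_contra c
  exact h.comm_not_mem hk1 hk (coe_Ka.not.1 hs') hx (coe_Ga.not.1 c) (coe_Ga.1 hc)

theorem Ka_pow (hk : k + 3 ≤ n) (he : e ∈ Ka S k) (he' : e ∉ Ga S 1) (hx : x ∈ Ka S k) :
    ∃ i : ℕ, (e ^ i)⁻¹ * x ∈ Ga S 1 := by
  obtain ⟨x, hx, rfl⟩ := hx
  obtain ⟨e, he, rfl⟩ := he
  exact (h.exists_pow_KK hk he (coe_Ga.not.1 he') hx).imp fun _ c => ⟨_, c, rfl⟩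

theorem Ga_of_comm (he : e ∈ S) (he' : e ∉ Ka S 1) (hm : m + 3 ≤ n) (hy : y ∈ Ga S 1)
    (hc : ⁅y, e⁆ ∈ Ga S (m + 1)) : y ∈ Ga S m := by
  lift e to S using he
  obtain ⟨y, hy, rfl⟩ := hy
  exact coe_Ga.2 (h.mem_of_comm (unif_of h he' hm) hy (coe_Ga.1 hc))

theorem Ga_conj (he : e ∈ S) (he' : e ∉ Ka S 1) (hm : m + 2 ≤ n) (hy : y ∈ Ga S 1) :
    ∃ g ∈ S, (g⁻¹ * e * g)⁻¹ * (e * y) ∈ Ga S m := by
  lift e to S using he
  obtain ⟨y, hy, rfl⟩ := hy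
  obtain ⟨g, hg⟩ := h.exists_conj (unif_of h he' hm) hy
  exact ⟨g, g.2, _, hg, rfl⟩

end Cfsg.Agent.MCF
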