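import Cfsg.Agent.MCE.IdxP

/-! Blackburn's theorem on the two-step centralizers of a group of maximal class. -/

set_option autoImplicit false

namespace Cfsg.Agent.MCE

open Subgroup Cfsg.Agent.H62 Cfsg.Agent.H19
open scoped commutatorElement

section lie

variable {M : Type*} [LieRing M] {x : M} {v : ℕ → M} {j : ℕ}

theorem lie_rec (hv : ∀ i, v (i + 1) = ⁅v i, x⁆) (i m : ℕ) :
    ⁅v i, v (m + 1)⁆ = ⁅⁅v i, v m⁆, x⁆ - ⁅v (i + 1), v m⁆ := by
  rw [hv m, leibniz_lie, ← hv, ← lie_skew (v m), sub_eq_add_neg]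

theorem lie_lt (hv : ∀ i, v (i + 1) = ⁅v i, x⁆) (h0 : ∀ i < j, ⁅v i, v 0⁆ = 0) (m : ℕ) :
    ∀ i, i + m < j → ⁅v i, v m⁆ = 0 := by
  induction m with
  | zero => exact h0
  | succ m ih => intro i hi; rw [lie_rec hv, ih i (by omega), ih (i + 1) (by omega)]; simp

theorem lie_eq (hv : ∀ i, v (i + 1) = ⁅v i, x⁆) (h0 : ∀ i < j, ⁅v i, v 0⁆ = 0) (m : ℕ) :
    ∀ i, i + m = j → ⁅v i, v m⁆ = (-1 : ℤ) ^ m • ⁅v j, v 0⁆ := by
  induction m with
  | zero => rintro i rfl; simp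
  | succ m ih =>
    intro i hi
    rw [lie_rec hv, lie_lt hv h0 m i (by omega), ih (i + 1) (by omega), pow_succ]; simp

theorem lie_gt (hv : ∀ i, v (i + 1) = ⁅v i, x⁆) (h0 : ∀ i < j, ⁅v i, v 0⁆ = 0) (m : ℕ) :
    ∀ i, i + m = j + 1 → ⁅v i, v m⁆ =
      (-1 : ℤ) ^ m • (⁅v (j + 1), v 0⁆ - m • ⁅⁅v j, v 0⁆, x⁆) := by
  induction m with
  | zero => rintro i rfl; simp
  | succ m ih =>
    intro i hi
    rw [lie_rec hv, lie_eq hv h0 m i (by omega), ih (i + 1) (by omega), zsmul_lie, pow_succ,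
      succ_nsmul, ← smul_sub, mul_smul]
    congr 1
    simp only [neg_smul, one_smul]
    abel

theorem neg_one_smul_eq_zero {a : M} {m : ℕ} (h : (-1 : ℤ) ^ m • a = 0) : a = 0 := by
  rcases neg_one_pow_eq_or ℤ m with e | e <;> simpa [e] using h

end lie

variable {p n : ℕ} [hp : Fact p.Prime] {T : Type*} [Group T] [Finite T]

theorem blk_aux (h : MC T p n) (h4 : 4 ≤ n) {j : ℕ} (hj : 1 ≤ j) (hj' : j + 3 ≤ n)
    (hmin : ∀ i, 1 ≤ i → i < j → KK T 1 ≤ KK T i) (hne : ¬ KK T 1 ≤ KK T j) :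
    j + 3 = n ∧ Odd j ∧ ∃ a ∈ LL T 1, ∃ b ∈ LL T (j - 1), ⁅a, b⁆ ∉ LL T (j + 2) := by
  have p2 := hp.out.two_le
  have jp : j < p := lt_of_not_ge fun e => hne (by
    have := (hmin (j + 1 - p) (by omega) (by omega)).trans (h.KK_le_KK (by omega))
    rwa [show j + 1 - p + p - 1 = j by omega] at this)
  have j3 : 2 ≤ j := by
    by_contra e
    exact hne (by rw [show j = 1 by omega])
  obtain ⟨y, hy, hy'⟩ := h.exists_KK le_rfl h4
  obtain ⟨x, hx⟩ : ∃ x, x ∉ KK T 1 := by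
    by_contra! c
    exact h.KK_ne_top h4 (eq_top_iff.2 fun x _ => c x)
  have yj : y ∉ KK T j := fun e => hne fun g hg => by
    obtain ⟨i, hi⟩ := h.exists_pow_KK h4 hy hy' hg
    simpa using mul_mem (pow_mem e i) (LL_one_le_KK j hi)
  have nb : ∀ k, k + 3 ≤ n → y ∈ KK T k → x ∉ KK T k := fun k hk h1 h2 =>
    h.KK_ne_top hk (KK_top_of h h4 hy hy' hx h1 h2)
  let g : ℕ → T := fun i => (fun a => ⁅a, x⁆)^[i] y
  have g0 : g 0 = y := rfl
  have gs : ∀ i, g (i + 1) = ⁅g i, x⁆ := fun i => Function.iterate_succ_apply' _ _ _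
  have m0 : ∀ a : T, a ∈ gam T 0 := fun a => mem_top a
  have gm : ∀ i, g i ∈ LL T i := fun i => by
    induction i with
    | zero => exact m0 _
    | succ i ih => exact gs i ▸ LL_comm' ih x
  have gn : ∀ i, i ≤ j → g i ∉ LL T (i + 1) := fun i => by
    induction i with
    | zero => exact fun _ => hy'
    | succ i ih =>
      intro hi e
      rw [gs] at e
      rcases Nat.eq_zero_or_pos i with rfl | i0
      · exact h.comm_not_mem le_rfl h4 hx hy hy' e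
      · exact nb i (by omega) (hmin i i0 hi hy) (mem_KK_of h i0 (gm i) (ih (by omega)) e)
  have hv : ∀ i, cls (i + 1) (g (i + 1)) = ⁅cls i (g i), cls 0 x⁆ := fun i => by
    rw [AL.lie_cls (gm i) (m0 x), gs]
  have h0 : ∀ i < j, ⁅cls i (g i), cls 0 (g 0)⁆ = 0 := fun i hi => by
    rw [AL.lie_cls (gm i) (gm 0), cls_eq_zero_iff (LL_comm' (gm i) _)]
    rcases Nat.eq_zero_or_pos i with rfl | i0
    · simp
    · exact hmin i i0 hi hy _ (gm i)
  have wm : ⁅g j, y⁆ ∈ LL T (j + 1) := LL_comm' (gm j) y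
  have wn : ⁅g j, y⁆ ∉ LL T (j + 2) := fun e => yj (mem_KK_of h hj (gm j) (gn j le_rfl) e)
  have w0 : ⁅cls j (g j), cls 0 (g 0)⁆ = cls (j + 1) ⁅g j, y⁆ := AL.lie_cls (gm j) (gm 0)
  have w1 : ⁅cls j (g j), cls 0 (g 0)⁆ ≠ 0 := fun e => wn ((cls_eq_zero_iff wm).1 (w0 ▸ e))
  have od : Odd j := Nat.not_even_iff_odd.1 fun ⟨r, hr⟩ => w1 (neg_one_smul_eq_zero
    ((lie_eq (v := fun i => cls i (g i)) hv h0 r r hr.symm).symm.trans (lie_self _)))
  refine ⟨by_contra fun c => ?_, od, g 1, gm 1, g (j - 1), gm _, fun e => w1 ?_⟩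
  · obtain ⟨r, hr⟩ := od
    have k1 := neg_one_smul_eq_zero ((lie_gt (v := fun i => cls i (g i)) hv h0 (r + 1) (r + 1)
      (by omega)).symm.trans (lie_self _))
    have k2 := leibniz_lie (cls (j - 1) (g (j - 1))) (cls 1 (g 1)) (cls 0 (g 0))
    rw [h0 1 (by omega), h0 (j - 1) (by omega), lie_eq (v := fun i => cls i (g i)) hv h0 1 (j - 1)
      (by omega), lie_zero, lie_zero, add_zero, zsmul_lie] at k2
    have k3 := neg_one_smul_eq_zero k2.symm
    obtain ⟨c, hc⟩ := h.exists_pow (by omega) wm wn (gm (j + 1))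
    have k4 := (cls_eq_zero_iff (mul_mem (inv_mem (pow_mem wm c)) (gm _))).2 hc
    rw [cls_mul (inv_mem (pow_mem wm c)) (gm _), cls_inv (pow_mem wm c), cls_pow wm,
      neg_add_eq_zero, ← w0] at k4
    rw [← k4, nsmul_lie, k3, smul_zero, zero_sub, neg_eq_zero, w0, AL.lie_cls wm (m0 x),
      ← cls_pow (LL_comm' wm x), cls_eq_zero_iff (pow_mem (LL_comm' wm x) _)] at k1
    rw [w0, AL.lie_cls wm (gm 0), cls_eq_zero_iff (LL_comm' wm _)] at k3
    refine nb (j + 1) (by omega) (mem_KK_of h (by omega) wm wn k3) (mem_KK_of h (by omega) wm wn ?_)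
    by_contra hc
    have := Nat.le_of_dvd (by omega) ((Nat.modEq_zero_iff_dvd).1 (modEq_of_pow hc
      (h.pow_mem_succ (by omega) (LL_comm' wm x)) (a := 0) (b := r + 1) (by simpa using k1)).symm)
    omega
  · refine neg_one_smul_eq_zero ((lie_eq (v := fun i => cls i (g i)) hv h0 (j - 1) 1
      (by omega)).symm.trans ?_)
    rw [AL.lie_cls (gm 1) (gm _), cls_eq_zero_iff (LL_comm (gm 1) (gm _))]
    rwa [show 1 + (j - 1) + 1 + 1 = j + 2 by omega]

/-- All two-step centralizers but the last one coincide. -/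
theorem blk (h : MC T p n) {k : ℕ} (hk : 1 ≤ k) (hk' : k + 4 ≤ n) : KK T k = KK T 1 := by
  have : ∀ j, 1 ≤ j → j + 4 ≤ n → KK T 1 ≤ KK T j := fun j => by
    induction j using Nat.strong_induction_on with
    | _ j ih =>
      intro h1 h2
      by_contra c
      have := (blk_aux h (by omega) h1 (by omega) (fun i i1 i2 => ih i i2 i1 (by omega)) c).1
      omega
  exact (eq_of_le_of_card_ge (this k hk hk')
    (by rw [h.card_KK hk (by omega), h.card_KK le_rfl (by omega)])).symm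

/-- The exceptional groups. -/
theorem blk_exc (h : MC T p n) (h4 : 4 ≤ n) (hne : ¬ KK T 1 ≤ KK T (n - 3)) :
    Even n ∧ ∃ a ∈ LL T 1, ∃ b ∈ LL T (n - 4), ⁅a, b⁆ ≠ 1 := by
  obtain ⟨-, ⟨r, hr⟩, a, ha, b, hb, e⟩ := blk_aux h h4 (by omega) (by omega)
    (fun i i1 i2 => (blk h i1 (by omega)).ge) hne
  exact ⟨⟨r + 2, by omega⟩, a, ha, b, hb, fun c => e (c ▸ one_mem _)⟩

end Cfsg.Agent.MCE
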