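import Cfsg.Agent.SR3.Al
import Cfsg.Agent.SR3.Fus

/-! Project MCE: essential subgroups that are elementary abelian of order `p ^ 3`. -/

set_option autoImplicit false

namespace Cfsg.Agent.MCF

open Subgroup Cfsg.Agent.SR3 Cfsg.Agent.SR3.AL
open scoped commutatorElement

universe u

variable {G : Type u} [Group G] [Finite G] {p : ℕ} [hp : Fact p.Prime]
  {N N₂ E E' D S : Subgroup G} {z : G}

theorem cen_aux (h5 : 5 ≤ p) (h : Par p N E) (hA : Al p N z) (hL : Loc p N₂ N) (hne : ¬ N₂ ≤ N)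
    (hfn : ∀ b ∈ nm N, N₂ ⊓ nm (cj b E) ≤ N) (hD : DD p N E D z) {s : G} (hs : s ∈ N₂)
    (hs' : s ∉ N) : s ∈ ce (Zo p D) := by
  have ho : Odd p := hp.out.odd_of_ne_two (by omega)
  have zp := (mem_Zo.1 hA.mem).2
  have zZ := Zo_le hA.mem
  have nZ : nm N ≤ nm (N ⊓ ce N) := fun b hb => nm_inf hb (nm_ce hb)
  have zc : zpowers z ≤ N ⊓ ce N := zpowers_le.2 zZ
  have zpw : ∀ v ∈ zpowers z, v ^ p = 1 := fun v hv => (mem_Zo.1 (zpowers_le.2 hA.mem hv)).2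
  have pw : ∀ x ∈ N, x ^ p ∈ N ⊓ ce N := fun x hx => ⟨pow_mem hx p, mem_ce.2 fun y hy => by
    have := comm_pow_mem (Z := ⊥) (hA.comm x hx y hy)
      (mem_St.2 ⟨nm_bot, fun v hv => comm_one hx (zc hv).2⟩) p
    rw [zpw _ (hA.comm x hx y hy), inv_one, mul_one, mem_bot] at this
    exact (commutatorElement_eq_one_iff_mul_comm.1 this).symm⟩
  obtain ⟨-, M, m1, m2, m3, m4, m5, m6⟩ := exists_M h hL hne hfn (Zle h) nZ hA.card pw
  have cM : Nat.card M = p * Nat.card ↥(N ⊓ ce N) :=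
    Nat.eq_of_mul_eq_mul_left hp.out.pos (by rw [← m3, hA.card]; ring)
  have sN : s ∈ St N M := le_St_of_card hL.pg m2 hL.le hL.norm (hL.norm.trans m4) m3.le hs
  have sM : s ∈ St M (N ⊓ ce N) := le_St_of_card hL.pg m1 (m2.trans hL.le) (hL.norm.trans m4)
    (hL.norm.trans nZ) cM.le hs
  have DE := hD.le.trans (Zle h)
  have DN := DE.trans h.le
  have LD : Zo p D ≤ D := Zo_le.trans inf_le_left
  have LZ : Zo p D ≤ Zo p N := fun v hv => mem_Zo.2 ⟨hD.le (LD hv), (mem_Zo.1 hv).2⟩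
  have nL : nm E ≤ nm (Zo p D) := fun g hg => nm_Zo (hD.inv hg)
  have z1 : z ≠ 1 := fun e => hD.nmem (e ▸ one_mem _)
  have cz := card_zpowers_eq zp z1
  obtain ⟨m, hm⟩ : ∃ m : ℤ, (p : ℤ) ∣ 2 * m - 1 := by
    obtain ⟨k, hk⟩ := ho
    exact ⟨k + 1, 1, by rw [hk]; push_cast; ring⟩
  obtain ⟨τ, t1, t2, t3, t4, t5, t6⟩ := h.torus le_rfl DE le_rfl hD.inv hD.card
    (le_St (le_normalizer.trans hD.inv) fun g hg x hx => by
      rw [comm_one hg (abE h hA hx)]; exact one_mem _) hD.pw hD.ntr hm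
  have ax : E ⊓ St N D = N ⊓ ce N := eq_of_card' (h.pg.to_le h.le)
    (fun v hv => ⟨Zle h hv, mem_St.2 ⟨ce_nm DN hv.2, fun x hx =>
      comm_symm (by rw [comm_one hx hv.2]; exact one_mem _)⟩⟩) inf_le_left (cardE h hA).le
    fun c => hD.ntr (h.toLoc.tr_of_le le_rfl DE le_rfl hD.inv
      (le_St_symm (c.trans inf_le_right) (h.norm.trans hD.inv)))
  rw [ax] at t4 t5
  have tD := hD.tr.mem t2 t3
  obtain ⟨x, hx, hx'⟩ := SetLike.not_le_iff_exists.1 (not_le (cardE h hA))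
  have xM : x ∉ M := fun k => hx' (m5.le ⟨k, hx⟩)
  have y1 : ⁅s, x⁆ ∉ N ⊓ ce N := fun k =>
    xM ((m6 s hs hs').le ⟨h.le hx, mem_St_one.2 ⟨nZ (le_normalizer (h.le hx)), comm_symm k⟩⟩)
  let B := St N M ⊓ St M (N ⊓ ce N) ⊓ St (Zo p N) (zpowers z) ⊓ St (zpowers z) ⊥
  have nB : nm N ≤ nm B := fun b hb => nm_inf (nm_inf (nm_inf (nm_St hb (m4 hb))
    (nm_St (m4 hb) (nZ hb))) (nm_St (nm_Zo hb) (nm_z hA hb))) (nm_St (nm_z hA hb) nm_bot)
  have sB : s ∈ B := ⟨⟨⟨sN, sM⟩, le_St_of_card hL.pg (zpowers_le.2 hA.mem)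
    ((Zo_le.trans inf_le_left).trans hL.le) (fun n hn => nm_Zo (hL.norm hn))
    (hL.norm.trans (nm_z hA)) (by rw [cz, ← pow_two]; exact hA.zo) hs⟩,
    le_St_of_card hL.pg bot_le ((zc.trans inf_le_left).trans hL.le) (hL.norm.trans (nm_z hA))
      (fun _ _ => nm_bot) (by rw [cz, card_bot, mul_one]) hs⟩
  have s'B : τ * s * τ⁻¹ ∈ B := conj_mem (nB t1) sB
  obtain ⟨k, hk⟩ := orb (h.pg.to_le m2) m1 cM.le sM ((mem_St.1 sN).2 x (h.le hx)) y1
    ((mem_St.1 s'B.1.1.1).2 x (h.le hx))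
  let A' := St N (N ⊓ ce N) ⊓ B
  have nA : nm N ≤ nm A' := fun b hb => nm_inf (nm_St hb (nZ hb)) (nB hb)
  have bA : τ * s * τ⁻¹ * (s ^ (k : ℤ))⁻¹ ∈ A' := by
    have b1 : (s ^ k)⁻¹ * (τ * s * τ⁻¹) ∈ B := mul_mem (inv_mem (pow_mem sB k)) s'B
    have b2 : (s ^ k)⁻¹ * (τ * s * τ⁻¹) ∈ St N (N ⊓ ce N) := by
      rw [← sup_zpowers_eq h.pg m2 m3.le (h.le hx) xM]
      nth_rewrite 2 3 [sup_zpowers_eq h.pg m2 m3.le (h.le hx) xM]
      refine mem_St_sup_zpowers (m2.trans (le_normalizer.trans nZ)) (nZ (le_normalizer (h.le hx)))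
        b1.1.1.2 ?_
      have := conj_mem (inv_mem (pow_mem (nZ (hL.norm hs)) k)) (inv_mem hk)
      convert this using 1
      simp only [commutatorElement_def]; group
    have := conj_mem (nA (pow_mem (hL.norm hs) k)) (⟨b2, b1⟩ : _ ∈ A')
    rwa [mul_inv_cancel_left, ← zpow_natCast] at this
  have wA := wt_of_gen (nA t1) (nA (hL.norm hs)) bA
  have AB : A' ⊔ zpowers s ≤ B := sup_le inf_le_right (zpowers_le.2 sB)
  have sA : s ∈ A' ⊔ zpowers s := mem_sup_right (mem_zpowers s)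
  have w1 := wt_comm (W := M) (Y := N ⊓ ce N) (k := 2 ^ 2) wA t5 (fun v hv => m5.le (mem_inf.2
      ⟨mul_mem (conj_mem (m4 t1) hv) (inv_mem (zpow_mem hv _)), t6 v (m2 hv)⟩))
    le_sup_left (Zle h) (inf_le_left.trans (St_anti h.le))
    (le_St le_normalizer fun g hg a ha => comm_symm (comm_mem_of_nm (mem_St.1 (AB ha).1.1.2).1 hg))
    (fun a ha b hb => (mem_St.1 (AB ha).1.1.1).2 b (h.le hb)) (fun a ha => (AB ha).1.1.2)
    (le_St (h.le.trans (le_normalizer.trans nZ)) fun g hg v hv =>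
      zc (hA.comm g (h.le hg) v (m2 hv))) sA hx
  have d1 := dvd_of_zpow_mem (pw _ (m2 ((mem_St.1 sN).2 x (h.le hx)))) y1 w1
  refine mem_ce.2 fun v hv => (commutatorElement_eq_one_iff_mul_comm.1 ?_).symm
  by_contra c1
  have w2 := wt_comm (B := Zo p D) (B' := ⊥) (W := zpowers z) (Y := ⊥) (j := 1) (k := 2) wA
    (wt_one_of_St (St_anti LD tD)) (fun v hv => mem_bot.2 (inf_bot zp hD.nmem
      (mul_mem (conj_mem (nm_z hA t1) hv) (inv_mem (zpow_mem hv _))) (t4 v (zc hv))))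
    le_sup_left bot_le
    (le_St (fun _ _ => nm_bot) fun a ha w hw => inf_bot zp hD.nmem
      ((mem_St.1 ha.2.1.2).2 w (LZ hw))
      (LD (comm_mem_of_nm (nL (St_le_nm (Zle h) h.le ha.1)) hw)))
    bot_le (fun a ha w hw => (mem_St.1 (AB ha).1.2).2 w (LZ hw)) (fun a ha => (AB ha).2)
    (le_St (fun _ _ => nm_bot) fun w hw a ha => comm_one (DN (LD hw)) (zc ha).2) sA hv
  have d2 := dvd_of_zpow_mem (Y := ⊥) (zpw _ ((mem_St.1 sB.1.2).2 v (LZ hv))) c1 w2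
  have d3 : (p : ℤ) ∣ 3 := by
    have := dvd_sub (dvd_add (d2.mul_right m) hm) d1
    rwa [show (k * 1 - 2) * m + (2 * m - 1) - (k * m - 2 ^ 2) = (3 : ℤ) by ring] at this
  have := Int.le_of_dvd (by norm_num) d3
  omega

/-- Two elementary abelian parabolics of order `p ^ 3`. -/
theorem al_of (h : Par p N E) (h' : Par p N E') (hne : E ≠ E') (hc : Nat.card E = p ^ 3)
    (a : E ≤ ce E) (a' : E' ≤ ce E') (e : ∀ x ∈ E, x ^ p = 1) :
    Nat.card ↥(N ⊓ ce N) = p ^ 2 ∧ ∃ z, Al p N z := by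
  have c1 := h.card_inf h' hne
  have c2 := h'.card_inf h hne.symm
  rw [inf_comm] at c2
  have sN := h.sup_eq h' hne
  have l1 : E ⊓ E' ≤ N ⊓ ce N := fun y hy => ⟨h.le hy.1, sN ▸ le_centralizer_iff.1
    (sup_le (le_centralizer_iff.1 (zpowers_le.2 (a hy.1)))
      (le_centralizer_iff.1 (zpowers_le.2 (a' hy.2)))) (mem_zpowers y)⟩
  have eZ : N ⊓ ce N = E ⊓ E' := le_antisymm (le_inf (Zle h) (Zle h')) l1
  have cZ : Nat.card ↥(N ⊓ ce N) = p ^ 2 :=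
    Nat.eq_of_mul_eq_mul_left hp.out.pos (by rw [eZ, ← c1, hc]; ring)
  obtain ⟨x, hx, hx'⟩ := SetLike.not_le_iff_exists.1 (not_le c1)
  obtain ⟨y, hy, hy'⟩ := SetLike.not_le_iff_exists.1 (not_le c2)
  have z1 : ⁅x, y⁆ ∈ N ⊓ ce N := eZ ▸ ⟨comm_symm (comm_mem_of_nm (h.norm (h'.le hy)) hx),
    comm_mem_of_nm (h'.norm (h.le hx)) hy⟩
  have nz : N ≤ nm (zpowers ⁅x, y⁆) := le_nm_of_comm fun g hg v hv => by
    rw [comm_one hg (zpowers_le.2 z1 hv).2]; exact one_mem _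
  have e1 := sup_zpowers_eq (h.pg.to_le h.le) inf_le_left c1.le hx hx'
  have e2 := h.gen (h'.le hy) fun c => hy' ⟨c, hy⟩
  have key : ∀ g ∈ N, ⁅g, x⁆ ∈ zpowers ⁅x, y⁆ → ⁅g, y⁆ ∈ zpowers ⁅x, y⁆ →
      g ∈ St N (zpowers ⁅x, y⁆) := fun g hg k1 k2 => by
    have := mem_St_sup_zpowers (h.le.trans nz) (nz (h'.le hy)) (e1 ▸ mem_St_sup_zpowers
      ((inf_le_left.trans h.le).trans nz) (nz (h.le hx)) (mem_St.2 ⟨nz hg, fun v hv => by
        rw [comm_one hg (l1 hv).2]; exact one_mem _⟩) k1) k2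
    rwa [e2] at this
  have k3 : N ≤ St N (zpowers ⁅x, y⁆) := by
    nth_rewrite 1 [← e2, ← e1]
    refine sup_le (sup_le (fun v hv => key v (l1 hv).1 ?_ ?_) (zpowers_le.2 (key x (h.le hx) ?_ ?_)))
      (zpowers_le.2 (key y (h'.le hy) ?_ ?_))
    · exact comm_symm (by rw [comm_one (h.le hx) (l1 hv).2]; exact one_mem _)
    · exact comm_symm (by rw [comm_one (h'.le hy) (l1 hv).2]; exact one_mem _)
    · simp
    · exact mem_zpowers _
    · exact comm_symm (mem_zpowers _)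
    · simp
  exact ⟨cZ, ⁅x, y⁆, by rw [h.card, hc, cZ]; ring, mem_Zo.2 ⟨z1, e _ (Zle h z1)⟩,
    fun a ha b hb => (k3 ha).2 b hb, cZ ▸ card_le_of_le Zo_le⟩

/-- An elementary abelian subgroup of order `p ^ 3` all of whose conjugates are parabolic. -/
structure Cu (p : ℕ) (S E : Subgroup G) : Prop where
  le : E ≤ S
  card : Nat.card E = p ^ 3
  ab : E ≤ ce E
  exp : ∀ x ∈ E, x ^ p = 1
  par : ∀ g, cj g E ≤ S → Par p (S ⊓ nm (cj g E)) (cj g E)

omit [Finite G] hp in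
theorem Cu.conj (h : Cu p S E) {g : G} (hg : cj g E ≤ S) : Cu p S (cj g E) :=
  ⟨hg, (card_cj g E).trans h.card, cj_ce g E ▸ cj_mono g h.ab, fun x hx => by
    have := h.exp _ (mem_cj.1 hx)
    rwa [show g⁻¹ * x * g = g⁻¹ * x * g⁻¹⁻¹ by group, conj_pow, conj_eq_one_iff] at this,
    fun a ha => by rw [cj_cj] at ha ⊢; exact h.par _ ha⟩

omit [Finite G] hp in
theorem Cu.par' (h : Cu p S E) : Par p (S ⊓ nm E) E := by
  simpa only [cj_one] using h.par 1 (by simpa only [cj_one] using h.le)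

theorem cu_of (hS : IsPGroup p S) (hF : (groupFusionSystem S).IsSaturated p)
    (hE : (groupFusionSystem S).IsEssential p E) (hc : Nat.card E = p ^ 3) (a : E ≤ ce E)
    (e : ∀ x ∈ E, x ^ p = 1) : Cu p S E := by
  have hES : E ≤ S := hE.1.1
  have hP := par_of hS hF hE (hc ▸ Nat.le_mul_of_pos_right _ Nat.card_pos)
  refine ⟨hES, hc, a, e, fun g hg => ?_⟩
  have hcj : (groupFusionSystem S).IsConj E (cj g E) := H92.isConj_group_iff.2 ⟨hES, hg, g, rfl⟩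
  have hlt : cj g E < S := lt_of_le_of_ne hg fun c => not_le hP.card
    (inf_le_left.trans (H91.eq_of_le_of_card_le hES (by rw [← c, card_cj])).ge)
  have c1 := mul_card_le (hS.to_le inf_le_left) (H91.lt_normalizerIn hS hlt)
  have c2 : Nat.card ↥(S ⊓ nm (cj g E)) = p * Nat.card (cj g E) :=
    le_antisymm ((hE.2.1.2 _ hcj).trans (by rw [card_cj]; exact hP.card.le)) c1
  have hL := loc_of hS hF (P := cj g E) ⟨hg, fun Q hQ => (hE.2.1.2 _ (H91.isConj_trans hcj hQ)).trans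
    (by rw [card_cj] at c1; exact hP.card.le.trans c1)⟩
  have hP' := hP.conj' g
  refine ⟨hL, c2, fun c => hP'.nc fun x hx => c x (Cl_le (fun y hy => ?_) ce_le_Cl nm_Cl hx)⟩
  obtain ⟨b, hb, k⟩ := hL.exists_conj hP'.norm fun y hy => by
    obtain ⟨m, hm⟩ := hP'.pg ⟨y, hy⟩
    exact ⟨m, (show y ^ p ^ m = 1 from congrArg Subtype.val hm).symm ▸ one_mem _⟩
  exact (mem_normalizer_iff.1 (nm_Cl hb) y).2 (sup_le le_Cl ce_le_Cl (k (conj_mem_cj b hy)))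

/-- The second normalizer centralizes the centre of the first one. -/
theorem Cu.cen (h : Cu p S E) (h5 : 5 ≤ p) (hS : IsPGroup p S)
    (hF : (groupFusionSystem S).IsSaturated p) (hn : ¬ S ≤ nm E) (hN : N = S ⊓ nm E) :
    Nat.card ↥(N ⊓ ce N) = p ^ 2 ∧ (∃ z, Al p N z) ∧ S ⊓ nm N ≤ ce (N ⊓ ce N) := by
  have hP : Par p N E := hN ▸ h.par'
  have hNS : N ≤ S := hN ▸ inf_le_left
  have hlt : N < S := lt_of_le_of_ne hNS fun e => hn (e ▸ hP.norm)
  have alN : ∀ {N E : Subgroup G}, Cu p S E → Par p N E → N < S → S ⊓ nm E ≤ N →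
      Nat.card ↥(N ⊓ ce N) = p ^ 2 ∧ ∃ z, Al p N z := fun {N E} h hP hlt k => by
    obtain ⟨s, hs, hs'⟩ := SetLike.not_le_iff_exists.1 (H91.lt_normalizerIn hS hlt).not_ge
    exact al_of hP (hP.conj hs.2) (fun e => hs' (k ⟨hs.1, mem_nm_iff.2 e.symm⟩)) h.card h.ab
      (cj_ce s E ▸ cj_mono s h.ab) h.exp
  refine ⟨(alN h hP hlt hN.ge).1, (alN h hP hlt hN.ge).2, ?_⟩
  obtain ⟨f, hf, hfn⟩ := H91.sat_exists_fullyNormalized hS hF hNS
  obtain ⟨-, hfS, γ, hγ⟩ := H91.M_group_iff.1 hf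
  have hNN : N ≤ FusionSystem.normalizerIn S N := le_inf hNS le_normalizer
  have him : H91.im f N = cj γ N :=
    (H91.im_congr fun x hx => hγ x (hNN hx)).trans (H91.im_conj γ N)
  rw [him] at hfn
  have hP' := hP.conj' γ
  have hL := loc_of hS hF hfn
  have hlt' : cj γ N < S := lt_of_le_of_ne hfn.1 fun c => by
    have h1 := H91.card_lt_of_lt hlt
    rw [← card_cj γ, c] at h1
    omega
  have hne := (H91.lt_normalizerIn hS hlt').not_ge
  have hfn' : ∀ b ∈ nm (cj γ N), S ⊓ nm (cj b (cj γ E)) ≤ cj γ N := fun b hb => by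
    have hPb := hP'.conj hb
    have k := (h.conj (hP'.le.trans hfn.1)).par b (hPb.le.trans hfn.1)
    exact (H91.eq_of_le_of_card_le (le_inf hfn.1 hPb.norm) (by rw [k.card, hPb.card])).ge
  have hC := h.conj (hP'.le.trans hfn.1)
  obtain ⟨-, z, hA⟩ := alN hC hP' hlt' (by simpa only [cj_one] using hfn' 1 (one_mem _))
  obtain ⟨D, hD⟩ := exists_DD hP' hA
  have DE := hD.le.trans (Zle hP')
  have k1 : S ⊓ nm (cj γ N) ≤ ce D := fun s hs => by
    by_cases hs' : s ∈ cj γ N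
    · exact le_centralizer_iff.1 (hD.le.trans inf_le_right) hs'
    · exact centralizer_le (fun d hd => mem_Zo.2 ⟨⟨hd, centralizer_le DE (hC.ab (DE hd))⟩,
        hC.exp d (DE hd)⟩) (cen_aux h5 hP' hA hL hne
          (fun b hb => (inf_le_inf_right _ inf_le_left).trans (hfn' b hb)) hD hs hs')
  have k2 : S ⊓ nm (cj γ N) ≤ St (zpowers z) ⊥ := le_St_of_card hL.pg bot_le
    ((zpowers_le.2 (Zo_le hA.mem).1).trans hL.le) (hL.norm.trans (nm_z hA)) (fun _ _ => nm_bot)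
    (by rw [card_zpowers_eq (mem_Zo.1 hA.mem).2 fun e => hD.nmem (e ▸ one_mem _), card_bot, mul_one])
  rw [St_bot] at k2
  have k3 : S ⊓ nm (cj γ N) ≤ ce (cj γ (N ⊓ ce N)) := by
    rw [cj_inf, cj_ce, ← hD.sup]
    exact le_centralizer_iff.1 (sup_le (le_centralizer_iff.1 k1) (le_centralizer_iff.1 k2))
  intro x hx
  have := k3 (mem_inf.2 ⟨hγ x hx ▸ hfS x hx, cj_nm γ N ▸ conj_mem_cj γ hx.2⟩)
  rw [← cj_ce, mem_cj] at this
  simpa [mul_assoc] using this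

end Cfsg.Agent.MCF
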