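import Cfsg.Agent.MCE.Amb
import Cfsg.Agent.MCE.Cen

/-! Project MCE: no essential subgroup `C_p ^ 3` in maximal class. -/

set_option autoImplicit false

namespace Cfsg.Agent.MCF

open Subgroup Cfsg.Agent.H62 Cfsg.Agent.SR3 Cfsg.Agent.SR3.AL
open scoped commutatorElement

universe u

variable {G : Type u} [Group G] [Finite G] {p n k : ℕ} [hp : Fact p.Prime] {S E : Subgroup G}
  {e g t x : G}

theorem not_le_pow {X Y : Subgroup G} {a b : ℕ} (h1 : Nat.card X = p ^ a) (h2 : Nat.card Y = p ^ b)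
    (h : b < a) : ¬ X ≤ Y := fun c =>
  (card_le_of_le c).not_gt (h1 ▸ h2 ▸ Nat.pow_lt_pow_right hp.out.one_lt h)

theorem Cu.str (hE : Cu p S E) (h : MC S p n) (h5 : 5 ≤ p) (hn : 5 ≤ n)
    (hF : (groupFusionSystem S).IsSaturated p) :
    Ga S (n - 3) ≤ E ∧ 6 ≤ n ∧ ∃ e ∈ E, e ∈ Ka S (n - 3) ∧ e ∉ Ka S 1 := by
  have hS := h.isPGroup
  have hP := hE.par'
  obtain ⟨N, hN⟩ : ∃ N, N = S ⊓ nm E := ⟨_, rfl⟩
  have mN : ∀ {x}, x ∈ S → x ∈ nm E → x ∈ N := fun h1 h2 => hN ▸ ⟨h1, h2⟩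
  rw [← hN] at hP
  have NS : N ≤ S := hN ▸ inf_le_left
  have cN : Nat.card N = p ^ 4 := by rw [hP.card, hE.card]; ring
  have nn : ¬ S ≤ nm E := fun c => not_le_pow h.card cN hn fun x hx => mN hx (c hx)
  obtain ⟨cZ, -, hc⟩ := hE.cen h5 hS hF nn hN
  have pE := hS.to_le hE.le
  have c2 := card_Ga h (k := n - 3) (m := 2) (by omega) (by omega)
  have c3 := card_Ga h (k := n - 4) (m := 3) (by omega) (by omega)
  have cen : ∀ {i j X Y}, n ≤ i + j + 2 → X ≤ Ga S i → Y ≤ Ga S j → X ≤ ce Y :=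
    fun hij h1 h2 x hx => mem_ce.2 fun y hy => (commutatorElement_eq_one_iff_mul_comm.1
      (Ga_one h hij (Ga_comm (h1 hx) (h2 hy) le_rfl))).symm
  have S0 : S ≤ Ga S 0 := fun _ => Ga_zero
  have self : ∀ {x}, x ∈ S → x ∈ ce E → x ∈ E := fun h1 h2 => hP.ce_le ⟨mN h1 (ce_le_nm le_rfl h2), h2⟩
  have z1 : Ga S (n - 2) ≤ N ⊓ ce N := fun x hx => by
    have := cen (by omega) le_rfl S0 hx
    exact ⟨mN (Ga_le hx) (ce_le_nm hE.le this), centralizer_le NS this⟩
  have ZE := Zle hP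
  have cE : Nat.card E ≤ p * p ^ 2 := by rw [hE.card]; exact le_of_eq (by ring)
  have kk : ∀ x ∈ S, x ∈ ce (Ga S (n - 3)) → x ∈ Ka S (n - 3) := fun x h1 h2 =>
    mem_Ka.2 ⟨h1, fun y hy => by rw [comm_one hy h2]; exact one_mem _⟩
  by_cases hA : Ga S (n - 3) ≤ E
  · have l1 : Ga S (n - 4) ≤ N := fun x hx => mN (Ga_le hx)
      (St_le_nm hA hE.le (St_S (by omega) hx))
    have n1 : ¬ Ga S (n - 4) ≤ E := fun c =>
      nn (eq_of_le_of_card_ge c (by rw [hE.card, c3]) ▸ nm_Ga)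
    have e1 : E ⊔ Ga S (n - 4) = N := eq_of_card hP.pg le_sup_left (sup_le hP.le l1) hP.card.le
      fun c => n1 (le_sup_right.trans c)
    have e2 : Ga S (n - 3) = N ⊓ ce N := eq_of_le_of_card_ge (le_inf (hA.trans hP.le) (by
      rw [← e1]
      exact le_centralizer_iff.1 (sup_le (le_centralizer_iff.1 (hA.trans hE.ab))
        (cen (by omega) le_rfl le_rfl)))) (by rw [cZ, c2])
    have n2 : ¬ S ≤ nm N := fun c =>
      Ka_ne h (k := n - 3) (by omega) fun x hx => kk x hx (e2 ▸ hc ⟨hx, c hx⟩)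
    have l2 : Ga S (n - 5) ≤ nm N := (St_S (by omega)).trans (St_le_nm l1 NS)
    have n6 : 6 ≤ n := by
      by_contra c
      exact n2 (S0.trans ((Ga_anti (by omega)).trans l2))
    obtain ⟨x, hx, hx'⟩ : ∃ x ∈ Ga S (n - 5), x ∉ N := SetLike.not_le_iff_exists.1 fun c =>
      n2 (eq_of_le_of_card_ge c (by rw [cN, card_Ga h (m := 4) (by omega) (by omega)]) ▸ nm_Ga)
    obtain ⟨e, he, he'⟩ := SetLike.not_le_iff_exists.1 (not_le_pow hE.card c2 (by omega))
    refine ⟨hA, n6, e, he, kk e (hE.le he) (centralizer_le hA (hE.ab he)), fun c => hx' (mN (Ga_le hx) ?_)⟩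
    rw [← Ka_blk h (k := n - 5) (by omega) (by omega)] at c
    refine St_le_nm hA le_rfl ?_
    rw [← sup_zpowers_eq pE hA (c2 ▸ cE) he he']
    exact mem_St_sup_zpowers le_normalizer (nm_Ga (hE.le he)) (mem_St_self (nm_Ga (Ga_le hx)))
      (Ga_anti (by omega) ((mem_Ka.1 c).2 x hx))
  exfalso
  obtain ⟨e, he, he'⟩ : ∃ e ∈ E, e ∉ Ka S (n - 3) := SetLike.not_le_iff_exists.1 fun c =>
    hA fun x hx => self (Ga_le hx) (mem_ce.2 fun y hy => (commutatorElement_eq_one_iff_mul_comm.1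
      (Ga_one h (by omega) ((mem_Ka.1 (c hy)).2 x hx))).symm)
  have e1 : e ∈ Ka S 1 := by
    by_contra c
    have := card_le_sq h (hE.le he) c he' hE.le (hE.ab he)
    rw [hE.card] at this
    exact this.not_gt (Nat.pow_lt_pow_right hp.out.one_lt (by omega))
  obtain ⟨⟨r, hr⟩, a, ha, b, hb, hab⟩ := Ka_exc h (by omega) fun c => he' (c e1)
  have l1 : Ga S (n - 3) ≤ N := fun x hx => mN (Ga_le hx)
    (St_le_nm (z1.trans ZE) hE.le (St_S (by omega) hx))
  have Z1 : N ⊓ ce N ≤ Ga S 1 := fun w hw => Ka_comm h (by omega) (by omega) (hE.le he) he'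
    (kk w (NS hw.1) (centralizer_le l1 hw.2))
    (comm_symm (by rw [comm_one (hP.le he) hw.2]; exact one_mem _))
  have eZ : e ∉ N ⊓ ce N := fun c => he' (Ga_le_Ka (Z1 c))
  have eE := sup_zpowers_eq pE ZE (cZ ▸ cE) he eZ
  have nZ : ∀ {x}, x ∈ nm (N ⊓ ce N) → ⁅x, e⁆ ∈ N ⊓ ce N → x ∈ nm E := fun h1 h2 => by
    have := mem_St_sup_zpowers le_normalizer (nm_inf (le_normalizer (hP.le he))
      (nm_ce (le_normalizer (hP.le he)))) (mem_St_self h1) h2
    rw [eE] at this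
    exact St_le_nm ZE le_rfl this
  have ek : ∀ j, 1 ≤ j → j + 4 ≤ n → ∀ x ∈ Ga S j, ⁅x, e⁆ ∈ Ga S (j + 2) := fun j j1 j2 =>
    (mem_Ka.1 ((Ka_blk h j1 j2).ge e1)).2
  have l2 : Ga S (n - 4) ≤ N := fun x hx => mN (Ga_le hx) (nZ
    (St_le_nm z1 Z1 (Ga_St (by omega) hx)) (z1 (Ga_anti (by omega) (ek _ (by omega) (by omega) x hx))))
  have e2 : N ⊓ Ga S 1 = Ga S (n - 4) := eq_of_card' hP.pg (le_inf l2 (Ga_anti (by omega)))
    inf_le_left (by rw [cN, c3]; exact le_of_eq (by ring)) fun c => he' (Ga_le_Ka (c (hP.le he)).2)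
  have Z4 : N ⊓ ce N ≤ Ga S (n - 4) := e2 ▸ le_inf inf_le_left Z1
  by_cases n6 : n = 6
  · obtain ⟨w, hw, hw'⟩ : ∃ w ∈ N ⊓ ce N, w ∉ Ga S (n - 3) := SetLike.not_le_iff_exists.1 fun c =>
      hA ((eq_of_le_of_card_ge c (by rw [cZ, c2])).ge.trans ZE)
    have k1 := hc ⟨Ga_le ha, St_le_nm l2 NS (St_S (by omega) ha)⟩
    have k2 : Ga S (n - 4) ≤ ce (zpowers a) := by
      rw [← sup_zpowers_eq (hS.to_le Ga_le) (Ga_anti (by omega : n - 4 ≤ n - 3))
        (by rw [c2, c3]; exact le_of_eq (by ring)) (Z4 hw) hw']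
      exact sup_le (cen (by omega) le_rfl (zpowers_le.2 ha))
        (le_centralizer_iff.1 (zpowers_le.2 (centralizer_le (zpowers_le.2 hw) k1)))
    exact hab (comm_one (mem_zpowers a) (k2 hb))
  · have l3 : Ga S (n - 6) ≤ nm (N ⊓ ce N) :=
      (Ga_St (by omega)).trans (St_le_nm z1 Z4)
    have i := idx l3 (fun x hx => Ga_anti (by omega) (ek _ (by omega) (by omega) x hx)) Z4
    have l4 : Ga S (n - 6) ⊓ St {e} (N ⊓ ce N) ≤ Ga S (n - 4) := fun x hx => e2 ▸
      ⟨mN (Ga_le hx.1) (nZ (l3 hx.1) (mem_St_one.1 hx.2).2), Ga_anti (by omega) hx.1⟩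
    have := i.trans (Nat.mul_le_mul_right _ (card_le_of_le l4))
    rw [cZ, c3, card_Ga h (m := 5) (by omega) (by omega), ← pow_add, ← pow_add] at this
    exact this.not_gt (Nat.pow_lt_pow_right hp.out.one_lt (by omega))

/-- An element of order `p` of the last two-step centralizer outside the first one. -/
structure Gd (p n : ℕ) (S : Subgroup G) (e : G) : Prop where
  mem : e ∈ Ka S (n - 3)
  nmem : e ∉ Ka S 1
  pow : e ^ p = 1

/-- The normalizer tower. -/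
abbrev Tw (S : Subgroup G) (e : G) (k : ℕ) : Subgroup G := Ga S k ⊔ zpowers e

omit [Finite G] hp in
theorem Gd.le (he : Gd p n S e) (hk : 1 ≤ k) : Tw S e k ≤ Ka S (n - 3) :=
  sup_le ((Ga_anti hk).trans Ga_le_Ka) (zpowers_le.2 he.mem)

theorem Gd.card (he : Gd p n S e) (hk : 1 ≤ k) : Nat.card (Tw S e k) = p * Nat.card (Ga S k) :=
  card_sup_zpowers (nm_Ga (Ka_le he.mem)) (he.pow ▸ one_mem _)
    fun c => he.nmem (Ga_le_Ka (Ga_anti hk c))

theorem Gd.inf (he : Gd p n S e) (h : MC S p n) (hk : 1 ≤ k) (hx : x ∈ Tw S e k) (hx' : x ∈ Ga S 1) :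
    x ∈ Ga S k :=
  (eq_of_card' (h.isPGroup.to_le ((he.le hk).trans Ka_le)) (le_inf le_sup_left (Ga_anti hk))
    inf_le_left (he.card hk).le
    fun c => he.nmem (Ga_le_Ka (c (mem_sup_right (mem_zpowers e))).2)).le ⟨hx, hx'⟩

theorem Gd.norm (he : Gd p n S e) (h : MC S p n) (hk : 1 ≤ k) (hk' : k + 4 ≤ n) :
    S ⊓ nm (Tw S e (k + 1)) = Tw S e k := by
  have eS := Ka_le he.mem
  have em : e ∈ Tw S e (k + 1) := mem_sup_right (mem_zpowers e)
  have key : ∀ g ∈ S, g ∈ nm (Tw S e (k + 1)) → ⁅g, e⁆ ∈ Ga S (k + 1) := fun g h1 h2 =>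
    he.inf h (by omega) (comm_mem_of_nm h2 em) (Ga_comm' (Ga_zero h1) eS le_rfl)
  refine le_antisymm (fun g hg => ?_) (le_inf ((he.le hk).trans Ka_le) (sup_le ((St_S le_rfl).trans
    (St_le_nm le_sup_left ((he.le (by omega)).trans Ka_le))) (zpowers_le.2 (le_normalizer em))))
  have g1 : g ∈ Ka S (n - 3) := by
    by_contra c
    exact he.nmem (Ga_le_Ka (Ka_comm h (by omega) (by omega) hg.1 c he.mem
      (comm_symm (Ga_anti (by omega) (key g hg.1 hg.2)))))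
  obtain ⟨i, hi⟩ := Ka_pow h (by omega) he.mem (fun c => he.nmem (Ga_le_Ka c)) g1
  have := Ga_of_comm h eS he.nmem (by omega) hi
    (key _ (Ga_le hi) (mul_mem (inv_mem (pow_mem (le_normalizer em) i)) hg.2))
  simpa using mul_mem (pow_mem (mem_sup_right (mem_zpowers e) : e ∈ Tw S e k) i) (mem_sup_left this)

theorem Cu.false (hE : Cu p S E) (h : MC S p n) (h5 : 5 ≤ p) (hn : 5 ≤ n)
    (hF : (groupFusionSystem S).IsSaturated p) : False := by
  have hS := h.isPGroup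
  have ho : Odd p := hp.out.odd_of_ne_two (by omega)
  have c2 := card_Ga h (k := n - 3) (m := 2) (by omega) (by omega)
  have str : ∀ {E}, Cu p S E → ∃ e, Gd p n S e ∧ Tw S e (n - 3) = E := fun {E} hE => by
    obtain ⟨k1, -, e, k2, k3, k4⟩ := hE.str h h5 hn hF
    exact ⟨e, ⟨k3, k4, hE.exp e k2⟩, sup_zpowers_eq (hS.to_le hE.le) k1
      (by rw [hE.card, c2]; exact le_of_eq (by ring)) k2
        fun c => k4 (Ga_le_Ka (Ga_anti (by omega) c))⟩
  have n6 := (hE.str h h5 hn hF).2.1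
  obtain ⟨e, he, rfl⟩ := str hE
  have eS := Ka_le he.mem
  have em : ∀ k, e ∈ Tw S e k := fun k => mem_sup_right (mem_zpowers e)
  have TS : ∀ {k}, 1 ≤ k → Tw S e k ≤ S := fun hk => (he.le hk).trans Ka_le
  have tower : ∀ d k, k + d = n - 3 → 1 ≤ k → ∀ g, cj g (Tw S e k) ≤ S →
      ∃ e', Gd p n S e' ∧ Tw S e' k = cj g (Tw S e k) := fun d => by
    induction d with
    | zero => rintro k rfl - g hg; exact str (hE.conj hg)
    | succ d ih =>
      intro k hk k1 g hg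
      obtain ⟨e', he', c⟩ := ih (k + 1) (by omega) (by omega) g
        ((cj_mono g (sup_le_sup_right (Ga_anti (Nat.le_succ k)) _)).trans hg)
      refine ⟨e', he', (eq_of_le_of_card_ge ?_ (by rw [card_cj, he.card k1, he'.card k1])).symm⟩
      rw [← he'.norm h k1 (by omega), c, ← cj_nm]
      exact le_inf hg (cj_mono g ((he.norm h k1 (by omega)).ge.trans inf_le_right))
  have loc : ∀ k, 1 ≤ k → k + 4 ≤ n → Loc p (Tw S e k) (Tw S e (k + 1)) := fun k k1 k2 => by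
    rw [← he.norm h k1 k2]
    refine loc_of hS hF ⟨TS (by omega), fun Q hQ => ?_⟩
    obtain ⟨-, q1, g, rfl⟩ := H92.isConj_group_iff.1 hQ
    obtain ⟨e', he', c⟩ := tower (n - 3 - (k + 1)) (k + 1) (by omega) (by omega) g q1
    change Nat.card ↥(S ⊓ nm (cj g _)) ≤ Nat.card ↥(S ⊓ nm _)
    rw [← c, he.norm h k1 k2, he'.norm h k1 k2, he.card k1, he'.card k1]
  have out : ∀ x ∈ Ka S (n - 3), x ∉ Ga S 1 → ∀ g ∈ nm (Ga S (n - 3)), g * x * g⁻¹ ∉ Ga S 1 :=
    fun x hx hx' g hg c => by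
      obtain ⟨i, hi⟩ := Ka_pow h (by omega) he.mem (fun c => he.nmem (Ga_le_Ka c)) hx
      have k1 : e ^ i ∉ Ka S 1 := fun c => by
        obtain ⟨j, hj⟩ := Int.natCast_dvd_natCast.1
          (dvd_of_zpow_mem (he.pow ▸ one_mem _) he.nmem (zpow_natCast e i ▸ c))
        rw [hj, pow_mul, he.pow] at hi
        exact hx' (by simpa using hi)
      obtain ⟨u, hu, k2⟩ := Ga_conj h (pow_mem eS i) k1 (m := n - 3) (by omega) hi
      have k3 : Ga S (n - 3) ≤ cj u⁻¹ (Tw S e (n - 3)) :=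
        (cj_eq (nm_Ga (inv_mem hu))).ge.trans (cj_mono _ le_sup_left)
      have k4 : cj u⁻¹ (Tw S e (n - 3)) ≤ S := (cj_mono _ hE.le).trans (cj_eq (le_normalizer (inv_mem hu))).le
      have k5 := sup_zpowers_eq (hS.to_le k4) k3 (by rw [card_cj, he.card (by omega)]) (y := x)
        (by simpa [mul_assoc] using mul_mem (conj_mem_cj u⁻¹ (pow_mem (em (n - 3)) i)) (k3 k2))
        fun c => hx' (Ga_anti (by omega) c)
      have k6 : cj (g * u⁻¹) (Tw S e (n - 3)) ≤ Ga S 1 := by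
        rw [← cj_cj, ← k5, cj_sup, cj_eq hg, cj, MonoidHom.map_zpowers]
        exact sup_le (Ga_anti (by omega)) (zpowers_le.2 c)
      obtain ⟨e', he', k7⟩ := str (hE.conj (k6.trans Ga_le))
      exact he'.nmem (Ga_le_Ka (k6 (k7.le (mem_sup_right (mem_zpowers e')))))
  have inv : ∀ k, 1 ≤ k → ∀ t ∈ nm (Tw S e k), t ∈ nm (Ga S (n - 3)) → t ∈ nm (Ga S k) :=
    fun k k1 t t1 t2 => mem_nm_of_conj fun y hy => by
      have k2 := conj_mem t1 (mem_sup_left hy)
      refine he.inf h k1 k2 (by_contra fun c => out _ (he.le k1 k2) c _ (inv_mem t2) ?_)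
      simpa [mul_assoc] using Ga_anti k1 hy
  have eN : S ⊓ nm (Tw S e (n - 3)) = Tw S e (n - 4) := by
    have := he.norm h (k := n - 4) (by omega) (by omega)
    rwa [show n - 4 + 1 = n - 3 by omega] at this
  have hP := hE.par'
  have cc : ∀ {k}, 1 ≤ k → Tw S e k ≤ ce (Ga S (n - 3)) := fun hk x hx => mem_ce.2 fun y hy =>
    commutatorElement_eq_one_iff_mul_comm.1 (Ga_one h (by omega) ((mem_Ka.1 (he.le hk hx)).2 y hy))
  obtain ⟨cZ, ⟨z, hA⟩, -⟩ := hE.cen h5 hS hF (fun c => Ka_ne h (k := n - 3) (by omega)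
    (((le_inf le_rfl c).trans eN.le).trans (he.le (by omega)))) eN.symm
  rw [eN] at hP
  have eZ : Ga S (n - 3) = Tw S e (n - 4) ⊓ ce (Tw S e (n - 4)) := eq_of_le_of_card_ge
    (le_inf ((Ga_anti (by omega)).trans le_sup_left) (le_centralizer_iff.1 (cc (by omega))))
    (by rw [cZ, c2])
  obtain ⟨D, hD⟩ := exists_DD hP hA
  have DZ : D ≤ Ga S (n - 3) := eZ ▸ hD.le
  have main : ∀ d k, k + d = n - 4 → 1 ≤ k → ∃ t ∈ nm (Tw S e k), t ∈ ce D ∧
      t ∈ St (Ga S (n - 4)) (Ga S (n - 3)) ∧ t * e * t⁻¹ * e ∈ Ga S k := fun d => by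
    induction d with
    | zero =>
      rintro k rfl -
      obtain ⟨t, t1, t2, t3, t4, -, t5⟩ := hP.invol ho le_rfl (DZ.trans le_sup_left) le_rfl hD.inv
        hD.card (le_St (le_normalizer.trans hD.inv) fun g hg x hx => by
          rw [comm_one hg (hE.ab hx)]; exact one_mem _) hD.pw hD.ntr
      have t6 : t ∈ nm (Ga S (n - 3)) := eZ ▸ nm_inf t1 (nm_ce t1)
      exact ⟨t, t1, (St_bot (D : Set G)).le (hD.tr.mem t2 t3), ⟨t6, fun y hy =>
        he.inf h (by omega) (t5.2 y (mem_sup_left hy)) (Ga_anti (by omega)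
          (comm_mem_of_nm (inv _ (by omega) t t1 t6) hy))⟩, Ga_anti (by omega) (DZ (t4 e (em _)))⟩
    | succ d ih =>
      intro k hk k1
      obtain ⟨t, t1, t2, t3, t4⟩ := ih (k + 1) (by omega) (by omega)
      have t5 := inv _ (by omega) t t1 t3.1
      have hL := loc k k1 (by omega)
      have l3 : Ga S (n - 3) ≤ Ga S (n - 4) := Ga_anti (by omega)
      have l4 : Ga S (n - 4) ≤ Tw S e (k + 1) := (Ga_anti (by omega)).trans le_sup_left
      obtain ⟨l, hl, k2⟩ := hL.frat (nm (Tw S e (k + 1)) ⊓ St (Tw S e (k + 1)) (Ga S (k + 1)) ⊓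
        ce (Ga S (n - 3)) ⊓ St (Ga S (n - 4)) (Ga S (n - 3)))
        (le_inf (le_inf (le_inf hL.norm (sup_le ((St_S le_rfl).trans (St_anti (TS (by omega))))
          (zpowers_le.2 (mem_St_sup_zpowers le_normalizer (nm_Ga eS) (mem_St_self (nm_Ga eS))
            (by simp))))) (cc k1)) ((TS k1).trans (S_St (by omega))))
        (le_inf (le_inf (le_inf (ce_le_nm le_rfl) (ce_le_St le_rfl le_sup_left))
          (centralizer_le (l3.trans l4))) (ce_le_St l4 (l3.trans l4)))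
        (inf_le_left.trans (inf_le_left.trans inf_le_left)) t t1
        (nm_inf (nm_inf (nm_inf (nm_nm t1) (nm_St t1 t5)) (nm_ce t3.1))
          (nm_St (St_le_nm l3 le_rfl t3) t3.1))
      refine ⟨t * l, k2, mul_mem t2 (centralizer_le DZ hl.1.2), mul_mem t3 hl.2,
        Ga_anti (Nat.le_succ k) ?_⟩
      have := mul_mem (conj_mem t5 (hl.1.1.2.2 e (em _))) t4
      convert this using 1
      simp only [commutatorElement_def]; group
  obtain ⟨t, t1, t2, t3, t4⟩ := main (n - 5) 1 (by omega) le_rfl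
  have t5 := inv 1 le_rfl t t1 t3.1
  have t6 : t * e * t⁻¹ ∉ Ka S 1 := fun c => he.nmem
    (by simpa [mul_assoc] using mul_mem (inv_mem c) (Ga_le_Ka t4))
  have nrm : ∀ d k, k + d = n - 3 → 1 ≤ k → t ∈ nm (Ga S k) := fun d => by
    induction d with
    | zero => rintro k rfl -; exact t3.1
    | succ d ih =>
      intro k hk k1
      exact mem_nm_of_conj fun y hy => Ga_of_comm h (TS le_rfl (conj_mem t1 (em 1))) t6 (by omega)
        (conj_mem t5 (Ga_anti k1 hy))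
        (conj_comm t y e ▸ conj_mem (ih _ (by omega) (by omega)) (Ga_comm' hy eS le_rfl))
  obtain ⟨⟨r, hr⟩, a, ha, b, hb, hab⟩ := Ka_exc h (by omega) fun c => he.nmem
    ((eq_of_le_of_card_ge c (by rw [card_Ka h le_rfl (by omega), card_Ka h (by omega) (by omega)])).ge
      he.mem)
  have c1 := card_Ga h (k := n - 2) (m := 1) (by omega) (by omega)
  have pw : ∀ k, 1 ≤ k → ∀ x ∈ Ga S k, x ^ p ∈ Ga S (k + 1) := fun k k1 x =>
    pow_mem_of_card (hS.to_le Ga_le) (Ga_anti (Nat.le_succ k)) (card_Ga_le h k1)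
  have pz : ∀ x ∈ Ga S (n - 2), x ^ p ∈ (⊥ : Subgroup G) := fun x hx =>
    Ga_one h (by omega) (pw _ (by omega) x hx)
  have abm : ⁅a, b⁆ ∈ Ga S (n - 2) := Ga_comm ha hb (by omega)
  have t7 : t ∈ nm (Ga S (n - 2)) := mem_nm_of_conj fun y hy => by
    rw [← sup_zpowers_eq (hS.to_le Ga_le) bot_le (by rw [c1]; simp) abm hab, bot_sup_eq] at hy
    obtain ⟨j, rfl⟩ := hy
    simp only []
    rw [← conj_zpow, conj_comm]
    exact zpow_mem (Ga_comm (conj_mem t5 ha) (conj_mem (nrm 1 _ (by omega) (by omega)) hb) (by omega)) j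
  have we : Wt t (Tw S e 1) (Ga S 1) (-1) := wt_of_gen t5 (nm_Ga eS) (by simpa using t4)
  have core : ∀ k, 1 ≤ k → k + 4 ≤ n → ∀ u v, Wt t (Ga S k) (Ga S (k + 1)) u →
      Wt t (Ga S (k + 1)) (Ga S (k + 2)) v → (p : ℤ) ∣ u * -1 - v := fun k k1 k2 u v hu hv => by
    obtain ⟨y, hy, hy'⟩ := Ga_exists h (k := k) (by omega)
    refine dvd_of_zpow_mem (pw _ (by omega) _ (Ga_comm' hy eS le_rfl)) (fun c => hy' ?_)
      (wt_comm hu we hv (Ga_anti (Nat.le_succ k)) le_sup_left ((St_S le_rfl).trans (St_anti (TS le_rfl)))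
        (Ga_St (by omega)) (fun a ha b hb => Ga_comm' ha (TS le_rfl hb) le_rfl)
        (Ga_le.trans (S_St le_rfl)) ((TS le_rfl).trans (S_St le_rfl)) hy (em 1))
    exact Ga_of_comm h eS he.nmem (by omega) (Ga_anti k1 hy) c
  have ex : ∀ k, 1 ≤ k → k + 3 ≤ n → ∃ u, Wt t (Ga S k) (Ga S (k + 1)) u := fun k k1 k2 =>
    exists_wt (hS.to_le Ga_le) (Ga_anti (Nat.le_succ k)) (card_Ga_le h k1)
      (nrm (n - 3 - k) k (by omega) k1) (by
        by_cases c : k + 1 = n - 2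
        · exact c ▸ t7
        · exact nrm (n - 3 - (k + 1)) _ (by omega) (by omega))
  have w4 : Wt t (Ga S (n - 4)) (Ga S (n - 4 + 1)) 1 := by
    rw [show n - 4 + 1 = n - 3 by omega]; exact wt_one_of_St t3
  have wts : ∀ d k, k + d = n - 4 → 1 ≤ k → Wt t (Ga S k) (Ga S (k + 1)) ((-1) ^ d) := fun d => by
    induction d with
    | zero => rintro k rfl -; exact w4
    | succ d ih =>
      intro k hk k1
      obtain ⟨u, hu⟩ := ex k k1 (by omega)
      refine hu.congr (pw k k1) ?_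
      have := (core k k1 (by omega) _ _ hu (ih _ (by omega) (by omega))).neg_right
      rwa [show -(u * -1 - (-1) ^ d) = u - (-1) ^ (d + 1) by ring] at this
  have w1 := wts (n - 5) 1 (by omega) le_rfl
  rw [Odd.neg_one_pow ⟨r - 3, by omega⟩] at w1
  obtain ⟨u, hu⟩ := ex (n - 4 + 1) (by omega) (by omega)
  have w3 := hu.congr (pw _ (by omega)) (j := -1) (by
    have := (core _ (by omega) (by omega) _ _ w4 hu).neg_right
    rwa [show -(1 * -1 - u) = u - -1 by ring] at this)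
  obtain ⟨v, hv⟩ := exists_wt (hS.to_le Ga_le) bot_le (by rw [c1]; simp) t7 nm_bot
  have b1 : ∀ {i j}, n ≤ i + j + 2 → Ga S i ≤ St (Ga S j) ⊥ := fun hij =>
    le_St (fun _ _ => nm_bot) fun _ ha _ hb => Ga_one h hij (Ga_comm ha hb le_rfl)
  have w2 := hv.congr pz (j := -1) (by
    have := (dvd_of_zpow_mem (pz _ abm) hab (wt_comm w1 w4 hv (Ga_anti (by omega)) (Ga_anti (by omega))
      (b1 (by omega)) (b1 (by omega)) (fun a ha b hb => Ga_comm ha hb (by omega)) (b1 (by omega))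
      (b1 (by omega)) ha hb)).neg_right
    rwa [show -(-1 * 1 - v) = v - -1 by ring] at this)
  have two : ∀ {Y : Subgroup G} {d}, d ∈ D → d ^ p ∈ Y → t * d * t⁻¹ * (d ^ (-1 : ℤ))⁻¹ ∈ Y → d ∈ Y :=
    fun {Y d} hd k1 k2 => by
      by_contra c
      rw [← mem_ce.1 t2 d hd] at k2
      have := Int.le_of_dvd (by norm_num) (dvd_of_zpow_mem k1 c (k := 2)
        (by rw [zpow_two]; simpa using k2))
      omega
  rw [show n - 4 + 1 = n - 3 by omega, show n - 3 + 1 = n - 2 by omega] at w3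
  refine not_le_pow (X := D) (Y := ⊥) (a := 1) (b := 0) (Nat.eq_of_mul_eq_mul_left
    (pow_pos hp.out.pos 2) (by rw [← hD.card, hE.card]; ring)) (by simp) one_pos fun d hd => ?_
  have k1 := hE.exp d (mem_sup_left (DZ hd))
  exact two hd k1 (w2 d (two hd (k1 ▸ one_mem _) (w3 d (DZ hd))))

end Cfsg.Agent.MCF
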