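import Mathlib

/-! Project MCE (normal essential subgroups in maximal class): degrees of triangular matrices. -/

set_option autoImplicit false

namespace Cfsg.Agent.MCE

open Matrix

variable {F : Type*} [Field F] {ι : Type*}

/-- Matrices raising the degree by at least `d`. -/
def Fl (F : Type*) [Field F] (deg : ι → ℤ) (d : ℤ) : Submodule F (Matrix ι ι F) where
  carrier := {A | ∀ i j, A i j ≠ 0 → deg j + d ≤ deg i}
  zero_mem' := fun _ _ h => (h rfl).elim
  add_mem' := fun {A B} hA hB i j h => by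
    by_cases e : A i j = 0
    · exact hB i j (by simpa [e] using h)
    · exact hA i j e
  smul_mem' := fun c A hA i j h => hA i j fun e => h (by simp [e])

theorem mem_Fl {deg : ι → ℤ} {d : ℤ} {A : Matrix ι ι F} :
    A ∈ Fl F deg d ↔ ∀ i j, A i j ≠ 0 → deg j + d ≤ deg i := Iff.rfl

theorem Fl_anti {deg : ι → ℤ} {d d' : ℤ} (h : d' ≤ d) {A : Matrix ι ι F} (hA : A ∈ Fl F deg d) :
    A ∈ Fl F deg d' := fun i j e => by have := hA i j e; omega

theorem Fl_zero_of {deg : ι → ℤ} {d : ℤ} {A : Matrix ι ι F} (hA : A ∈ Fl F deg d) {i j : ι}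
    (h : deg i < deg j + d) : A i j = 0 := by
  by_contra e
  have := hA i j e
  omega

theorem Fl_mul [Fintype ι] {deg : ι → ℤ} {d d' : ℤ} {A B : Matrix ι ι F} (hA : A ∈ Fl F deg d)
    (hB : B ∈ Fl F deg d') : A * B ∈ Fl F deg (d + d') := fun i j h => by
  rw [mul_apply] at h
  obtain ⟨l, -, hl⟩ := Finset.exists_ne_zero_of_sum_ne_zero h
  have h1 := hA i l (left_ne_zero_of_mul hl)
  have h2 := hB l j (right_ne_zero_of_mul hl)
  omega

theorem Fl_one [DecidableEq ι] {deg : ι → ℤ} : (1 : Matrix ι ι F) ∈ Fl F deg 0 := fun i j h => by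
  by_cases e : i = j
  · subst e; omega
  · exact (h (one_apply_ne e)).elim

theorem Fl_pow [Fintype ι] [DecidableEq ι] {deg : ι → ℤ} {d : ℤ} {A : Matrix ι ι F}
    (hA : A ∈ Fl F deg d) (m : ℕ) : A ^ m ∈ Fl F deg (m * d) := by
  induction m with
  | zero => simpa using Fl_one
  | succ m ih =>
    rw [pow_succ]
    exact Fl_anti (by push_cast; linarith) (Fl_mul ih hA)

theorem Fl_of_sub_one [DecidableEq ι] {deg : ι → ℤ} {d : ℤ} (hd : 0 ≤ d) {A : Matrix ι ι F}
    (hA : A - 1 ∈ Fl F deg d) : A ∈ Fl F deg 0 := by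
  simpa using add_mem (Fl_anti hd hA) (Fl_one (F := F) (deg := deg))

variable {w : ℕ}

/-- The degree of a basis vector. -/
def dg (w : ℕ) : Fin w → ℤ := fun i => ((i : ℕ) : ℤ)

/-- Lower triangular matrices of degree at least `d`. -/
abbrev L (F : Type*) [Field F] (w : ℕ) (d : ℤ) : Submodule F (Matrix (Fin w) (Fin w) F) :=
  Fl F (dg w) d

theorem mem_L {d : ℤ} {A : Matrix (Fin w) (Fin w) F} :
    A ∈ L F w d ↔ ∀ i j : Fin w, A i j ≠ 0 → ((j : ℕ) : ℤ) + d ≤ (i : ℕ) := Iff.rfl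

theorem L_zero_of {d : ℤ} {A : Matrix (Fin w) (Fin w) F} (hA : A ∈ L F w d) {i j : Fin w}
    (h : ((i : ℕ) : ℤ) < (j : ℕ) + d) : A i j = 0 := Fl_zero_of hA h

theorem L_eq_zero {d : ℤ} {A : Matrix (Fin w) (Fin w) F} (hA : A ∈ L F w d) (h : (w : ℤ) ≤ d) :
    A = 0 := by
  ext i j
  exact L_zero_of hA (by have := i.2; omega)

theorem lead {k l : ℤ} {A B : Matrix (Fin w) (Fin w) F} (hA : A ∈ L F w k) (hB : B ∈ L F w l)
    {i j m : Fin w} (h1 : ((i : ℕ) : ℤ) = m + k) (h2 : ((m : ℕ) : ℤ) = j + l) :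
    (A * B) i j = A i m * B m j := by
  rw [mul_apply]
  refine Finset.sum_eq_single m (fun b _ hb => ?_) (by simp)
  by_contra e
  have e1 := mem_L.1 hA i b (left_ne_zero_of_mul e)
  have e2 := mem_L.1 hB b j (right_ne_zero_of_mul e)
  exact hb (Fin.ext (by omega))

/-- Exact degree `k`. -/
structure Ex (k : ℕ) (A : Matrix (Fin w) (Fin w) F) : Prop where
  mem : A ∈ L F w k
  ne : ∀ i j : Fin w, (i : ℕ) = j + k → A i j ≠ 0

theorem Ex.mul {k l : ℕ} {A B : Matrix (Fin w) (Fin w) F} (hA : Ex k A) (hB : Ex l B) :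
    Ex (k + l) (A * B) := by
  refine ⟨by simpa using Fl_mul hA.mem hB.mem, fun i j h => ?_⟩
  have hm : (j : ℕ) + l < w := by have := i.2; omega
  rw [lead hA.mem hB.mem (m := ⟨_, hm⟩) (by simp; omega) (by simp)]
  exact mul_ne_zero (hA.ne _ _ (by simp; omega)) (hB.ne _ _ rfl)

theorem Ex.pow {A : Matrix (Fin w) (Fin w) F} (hA : Ex 1 A) (m : ℕ) : Ex m (A ^ m) := by
  induction m with
  | zero => exact ⟨by simpa using Fl_one, fun i j h => by
      rw [show i = j from Fin.ext h, pow_zero, one_apply_eq]; exact one_ne_zero⟩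
  | succ m ih => rw [pow_succ]; exact ih.mul hA

/-- `M` maps the `b`-th member of the flag into the `a`-th. -/
def Zr (a b : ℕ) (M : Matrix (Fin w) (Fin w) F) : Prop :=
  ∀ i j : Fin w, (i : ℕ) < a → b ≤ (j : ℕ) → M i j = 0

theorem mem_L_zero {M : Matrix (Fin w) (Fin w) F} : M ∈ L F w 0 ↔ ∀ a, Zr a a M := by
  refine ⟨fun h a i j h1 h2 => L_zero_of h (by omega), fun h i j e => ?_⟩
  by_contra hc
  exact e (h j i j (by simp only [dg] at hc; omega) le_rfl)

theorem Zr.col {k a b : ℕ} {X M : Matrix (Fin w) (Fin w) F} (hX : Ex k X) (h : Zr a b (M * X)) :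
    Zr a (b + k) M := by
  intro i j hi
  induction hd : w - j using Nat.strong_induction_on generalizing j with
  | _ d ih =>
  intro hj
  have hm : (j : ℕ) - k < w := by have := j.2; omega
  have e := h i ⟨_, hm⟩ hi (by simp; omega)
  rw [mul_apply, Finset.sum_eq_single j (fun l _ hl => ?_) (by simp)] at e
  · exact (mul_eq_zero.1 e).resolve_right (hX.ne _ _ (by simp; omega))
  · by_contra e'
    have e2 := mem_L.1 hX.mem l _ (right_ne_zero_of_mul e')
    have e3 : (l : ℕ) ≠ j := fun e => hl (Fin.ext e)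
    simp only at e2
    exact left_ne_zero_of_mul e' (ih (w - l) (by have := l.2; omega) l rfl (by omega))

theorem Zr.row {k a b : ℕ} {X M : Matrix (Fin w) (Fin w) F} (hX : Ex k X) (ha : a + k ≤ w)
    (h : Zr (a + k) b (X * M)) : Zr a b M := by
  intro i j hi hj
  induction hd : (i : ℕ) using Nat.strong_induction_on generalizing i with
  | _ d ih =>
  have hm : (i : ℕ) + k < w := by omega
  have e := h ⟨_, hm⟩ j (by simp; omega) hj
  rw [mul_apply, Finset.sum_eq_single i (fun l _ hl => ?_) (by simp)] at e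
  · exact (mul_eq_zero.1 e).resolve_left (hX.ne _ _ rfl)
  · by_contra e'
    have e2 := mem_L.1 hX.mem _ l (left_ne_zero_of_mul e')
    have e3 : (l : ℕ) ≠ i := fun e => hl (Fin.ext e)
    simp only at e2
    exact right_ne_zero_of_mul e' (ih l (by omega) l (by omega) rfl)

theorem Zr.left {k a b : ℕ} {X M : Matrix (Fin w) (Fin w) F} (hX : X ∈ L F w k) (h : Zr a b M) :
    Zr (a + k) b (X * M) := fun i j hi hj => by
  rw [mul_apply]
  refine Finset.sum_eq_zero fun l _ => ?_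
  by_cases e : (l : ℕ) < a
  · rw [h l j e hj, mul_zero]
  · rw [L_zero_of hX (by omega), zero_mul]

theorem Zr.mul {a b c : ℕ} {A B : Matrix (Fin w) (Fin w) F} (hA : Zr a b A) (hB : Zr b c B) :
    Zr a c (A * B) := fun i j hi hj => by
  rw [mul_apply]
  refine Finset.sum_eq_zero fun l _ => ?_
  by_cases e : (l : ℕ) < b
  · rw [hB l j e hj, mul_zero]
  · rw [hA i l hi (by omega), zero_mul]

theorem Zr.step {k a : ℕ} {X X' M : Matrix (Fin w) (Fin w) F} (hX : Ex k X) (hX' : X' ∈ L F w k)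
    (e : M * X = X' * M) (h : Zr a a M) : Zr (a + k) (a + k) M :=
  Zr.col hX (e ▸ h.left hX')

/-- A matrix intertwining a regular nilpotent matrix with a strictly triangular one is
triangular. -/
theorem tri {X X' M : Matrix (Fin w) (Fin w) F} (hX : Ex 1 X) (hX' : X' ∈ L F w 1)
    (e : M * X = X' * M) : M ∈ L F w 0 := mem_L_zero.2 fun a => by
  induction a with
  | zero => exact fun i j h => by omega
  | succ a ih => exact ih.step hX (by simpa using hX') e

/-- An invariant subspace for a regular nilpotent matrix is a member of the flag. -/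
theorem exists_flag {X : Matrix (Fin w) (Fin w) F} (hX : Ex 1 X) (C : Submodule F (Fin w → F))
    (hC : ∀ v ∈ C, X *ᵥ v ∈ C) (h0 : C ≠ ⊥) :
    ∃ a < w, ∀ v, v ∈ C ↔ ∀ i : Fin w, (i : ℕ) < a → v i = 0 := by
  classical
  have hex : ∃ a, ∃ v ∈ C, ∃ i : Fin w, (i : ℕ) = a ∧ v i ≠ 0 := by
    obtain ⟨v, hv, hv'⟩ := C.ne_bot_iff.1 h0
    obtain ⟨i, hi⟩ := Function.ne_iff.1 hv'
    exact ⟨i, v, hv, i, rfl, hi⟩
  obtain ⟨v₀, hv₀, i₀, hi₀, hne⟩ := Nat.find_spec hex
  have hmin : ∀ v ∈ C, ∀ i : Fin w, (i : ℕ) < Nat.find hex → v i = 0 := fun v hv i hi => by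
    by_contra e
    exact Nat.find_min hex hi ⟨v, hv, i, rfl, e⟩
  refine ⟨_, hi₀ ▸ i₀.2, fun v => ⟨hmin v, fun hv => ?_⟩⟩
  have h1 : ∀ m, (X ^ m) *ᵥ v₀ ∈ C := fun m => by
    induction m with
    | zero => simpa using hv₀
    | succ m ih => rw [pow_succ', ← mulVec_mulVec]; exact hC _ ih
  have key : ∀ d b, w - b = d → Nat.find hex ≤ b → ∀ u : Fin w → F,
      (∀ i : Fin w, (i : ℕ) < b → u i = 0) → u ∈ C := by
    intro d
    induction d with
    | zero =>
      intro b hb _ u hu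
      rw [show u = 0 from funext fun i => hu i (by have := i.2; omega)]
      exact C.zero_mem
    | succ d ih =>
      intro b hb hb' u hu
      have hbw : b < w := by omega
      have hp := hX.pow (b - i₀)
      have e1 : ∀ i : Fin w, (i : ℕ) ≤ b → ((X ^ (b - i₀)) *ᵥ v₀) i =
          (X ^ (b - i₀)) i i₀ * v₀ i₀ := fun i hi => by
        rw [mulVec, dotProduct]
        refine Finset.sum_eq_single i₀ (fun l _ hl => ?_) (by simp)
        have e3 : (l : ℕ) ≠ i₀ := fun e => hl (Fin.ext e)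
        by_cases e : (l : ℕ) < i₀
        · rw [hmin v₀ hv₀ l (by omega), mul_zero]
        · rw [L_zero_of hp.mem (by omega), zero_mul]
      have e2 : ((X ^ (b - i₀)) *ᵥ v₀) ⟨b, hbw⟩ ≠ 0 := by
        rw [e1 _ le_rfl]
        exact mul_ne_zero (hp.ne _ _ (by simp; omega)) hne
      have := ih (b + 1) (by omega) (by omega)
        (u - (u ⟨b, hbw⟩ / ((X ^ (b - i₀)) *ᵥ v₀) ⟨b, hbw⟩) • ((X ^ (b - i₀)) *ᵥ v₀)) fun i hi => by
          rcases (show (i : ℕ) < b ∨ i = ⟨b, hbw⟩ from by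
            rcases Nat.lt_succ_iff_lt_or_eq.1 hi with e | e
            exacts [Or.inl e, Or.inr (Fin.ext e)]) with e | rfl
          · rw [Pi.sub_apply, Pi.smul_apply, hu i e, e1 i e.le, L_zero_of hp.mem (by omega)]
            simp
          · rw [Pi.sub_apply, Pi.smul_apply, smul_eq_mul, div_mul_cancel₀ _ e2, sub_self]
      simpa using C.add_mem this (C.smul_mem
        (u ⟨b, hbw⟩ / ((X ^ (b - i₀)) *ᵥ v₀) ⟨b, hbw⟩) (h1 (b - i₀)))
  exact key _ _ rfl le_rfl v hv

end Cfsg.Agent.MCE
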