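import Cfsg.Agent.MCE.Main
import Cfsg.Agent.H62.NoFlag
import Cfsg.Agent.H19.AssocLie

/-! Project MCE: maximal subgroups of groups of maximal class. -/

set_option autoImplicit false

namespace Cfsg.Agent.MCE

open Subgroup Cfsg.Agent.H62 Cfsg.Agent.H19
open scoped commutatorElement

theorem lie_aux {M : Type*} [LieRing M] {A B E2 E3 E4 E5 : M} (e2 : ⁅A, B⁆ = E2)
    (e3 : ⁅E2, B⁆ = E3) (e4 : ⁅E3, B⁆ = E4) (e5 : ⁅E4, A⁆ = E5) (h1 : ⁅E2, A⁆ = 0)
    (h2 : ⁅E3, A⁆ = 0) (h3 : ⁅E4, B⁆ = 0) : ⁅E5, A⁆ = 0 ∧ 2 • ⁅E5, B⁆ = 0 := by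
  have j1 := leibniz_lie E3 A B
  have j2 := leibniz_lie E4 A B
  have j3 := leibniz_lie E3 E2 B
  have j4 := leibniz_lie E3 E2 A
  rw [e2, h2, e4, zero_lie, zero_add, ← lie_skew A, e5] at j1
  rw [e2, e5, h3, lie_zero, add_zero] at j2
  rw [e3, lie_self, j1, e4, ← lie_skew E2, j2, neg_lie, ← neg_add, ← two_nsmul] at j3
  rw [h1, h2, j1, lie_zero, lie_zero, add_zero, neg_lie] at j4
  exact ⟨neg_eq_zero.1 j4.symm, neg_eq_zero.1 j3.symm⟩

variable {p n : ℕ} [hp : Fact p.Prime] {T : Type*} [Group T] [Finite T]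

theorem KK_top_of (h : MC T p n) (h4 : 4 ≤ n) {a b : T} (ha : a ∈ KK T 1) (ha' : a ∉ LL T 1)
    (hb : b ∉ KK T 1) {k : ℕ} (h1 : a ∈ KK T k) (h2 : b ∈ KK T k) : KK T k = ⊤ :=
  eq_top_iff.2 fun g _ => by
    obtain ⟨i, hi⟩ := h.KK_sup hb le_rfl g
    obtain ⟨j, hj⟩ := h.exists_pow_KK h4 ha ha' hi
    simpa using mul_mem (pow_mem h2 i) (mul_mem (pow_mem h1 j) (LL_one_le_KK k hj))

theorem mem_KK_of (h : MC T p n) {k : ℕ} (hk : 1 ≤ k) {y g : T} (hy : y ∈ LL T k)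
    (hy' : y ∉ LL T (k + 1)) (e : ⁅y, g⁆ ∈ LL T (k + 2)) : g ∈ KK T k := by
  by_contra hc
  exact hy' (h.mem_of_comm_mem hk hc hy e)

theorem KK_three (h : MC T p n) (h5 : 5 ≤ p) (h7 : 7 ≤ n) : KK T 3 ≤ KK T 1 := fun b hb => by
  by_contra hb'
  obtain ⟨a, ha, ha'⟩ := h.exists_KK le_rfl (by omega : 1 + 3 ≤ n)
  have a2 := h.KK_one_le_two ha
  have nb : ∀ k, k + 3 ≤ n → a ∈ KK T k → b ∉ KK T k := fun k hk h1 h2 =>
    h.KK_ne_top hk (KK_top_of h (by omega) ha ha' hb' h1 h2)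
  have m0 : ∀ g : T, g ∈ gam T 0 := fun g => mem_top g
  have m2 : ⁅a, b⁆ ∈ LL T 1 := LL_comm' (m0 a) b
  have m3 := LL_comm' m2 b
  have m4 := LL_comm' m3 b
  have m5 := LL_comm' m4 a
  have n2 := h.comm_not_mem le_rfl (by omega) hb' ha ha'
  have n3 : ⁅⁅a, b⁆, b⁆ ∉ LL T 3 := fun e => hb' (mem_KK_of h le_rfl m2 n2 e)
  have n4 : ⁅⁅⁅a, b⁆, b⁆, b⁆ ∉ LL T 4 := fun e => nb 2 (by omega) a2 (mem_KK_of h (by omega) m3 n3 e)
  have n5 : ⁅⁅⁅⁅a, b⁆, b⁆, b⁆, a⁆ ∉ LL T 5 := fun e =>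
    nb 3 (by omega) (mem_KK_of h (by omega) m4 n4 e) hb
  obtain ⟨k1, k2⟩ := lie_aux (AL.lie_cls (m0 a) (m0 b)) (AL.lie_cls m2 (m0 b))
    (AL.lie_cls m3 (m0 b)) (AL.lie_cls m4 (m0 a))
    ((AL.lie_cls m2 (m0 a)).trans ((cls_eq_zero_iff (LL_comm' m2 a)).2 (ha _ m2)))
    ((AL.lie_cls m3 (m0 a)).trans ((cls_eq_zero_iff (LL_comm' m3 a)).2 (a2 _ m3)))
    ((AL.lie_cls m4 (m0 b)).trans ((cls_eq_zero_iff (LL_comm' m4 b)).2 (hb _ m4)))
  rw [AL.lie_cls m5 (m0 a), cls_eq_zero_iff (LL_comm' m5 a)] at k1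
  rw [AL.lie_cls m5 (m0 b), ← cls_pow (LL_comm' m5 b),
    cls_eq_zero_iff (pow_mem (LL_comm' m5 b) 2)] at k2
  refine nb 4 h7 (mem_KK_of h (by omega) m5 n5 k1) (mem_KK_of h (by omega) m5 n5 ?_)
  by_contra hc
  have := Nat.le_of_dvd (by norm_num) ((Nat.modEq_zero_iff_dvd).1 (modEq_of_pow hc
    (h.pow_mem_succ (by omega) (LL_comm' m5 b)) (a := 0) (b := 2) (by simpa using k2)).symm)
  omega

theorem comm_eq (h : MC T p n) {M : Subgroup T} [M.Normal] {k : ℕ} (hk : 1 ≤ k)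
    (hM : ¬ M ≤ KK T k ∨ n ≤ k + 2) : ⁅LL T k, M⁆ = LL T (k + 1) := by
  have h1 : ⁅LL T k, M⁆ ≤ LL T (k + 1) := commutator_mono le_rfl le_top
  rcases hM with hM | hM
  · obtain ⟨c, hc, e⟩ := normal_eq h (by omega) h1
    refine le_antisymm h1 (e ▸ LL_anti (le_of_not_gt fun hc' => hM fun g hg y hy => ?_))
    exact LL_anti hc' (e ▸ commutator_mem_commutator hy hg)
  · rw [h.LL_eq_bot (k := k + 1) (by omega)] at h1 ⊢
    exact le_bot_iff.1 h1

theorem not_nf (h : MC T p n) (h5 : 5 ≤ n) {A : Type*} [Group A] {ι : A →* T}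
    (inj : Function.Injective ι) [ι.range.Normal] (hi : ι.range.index = p)
    (h1 : ι.range ≠ KK T 1) (h3 : ι.range ≠ KK T 3) : ¬ NF p A := fun nf => by
  have : Finite A := Finite.of_injective ι inj
  have hA : IsPGroup p A := h.isPGroup.of_injective ι inj
  have c0 : Nat.card ι.range = p ^ (n - 1) := by
    have e := ι.range.index_mul_card
    rw [hi, h.card] at e
    apply Nat.eq_of_mul_eq_mul_left hp.out.pos
    rw [e, ← pow_succ']; congr 1; omega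
  have ne : ∀ k, 1 ≤ k → k + 3 ≤ n → ι.range ≠ KK T k → ¬ ι.range ≤ KK T k := fun k k1 k2 e e' =>
    e (eq_of_le_of_card_ge e' (by rw [c0, h.card_KK k1 k2]))
  have l1 : LL T 1 ≤ ι.range := H3.commutator_le_of_normal_index_prime hi
  have n2 : ¬ ι.range ≤ KK T 2 := fun e => ne 1 le_rfl (by omega) h1 (e.trans (eq_of_le_of_card_ge
    h.KK_one_le_two (by rw [h.card_KK le_rfl (by omega), h.card_KK (by omega) (by omega)])).ge)
  obtain ⟨e, he, he'⟩ := SetLike.not_le_iff_exists.1 n2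
  have pw : ∀ a ∈ ι.range, ∃ i : ℕ, (e ^ i)⁻¹ * a ∈ LL T 1 := fun a ha =>
    MC.exists_pow_of_card h.isPGroup l1 (by
      rw [c0, h.card_LL le_rfl (by omega), ← pow_succ']; exact le_of_eq (by congr 1; omega)) he
      (fun e => he' (LL_one_le_KK 2 e)) ha
  have d1 : (LL A 1).map ι = LL T 2 := by
    rw [map_lowerCentralSeries, ← MonoidHom.range_eq_map]
    refine le_antisymm (commutator_le.2 fun a ha b hb => ?_)
      ((comm_eq h le_rfl (Or.inl (ne 1 le_rfl (by omega) h1))).ge.trans (commutator_mono l1 le_rfl))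
    obtain ⟨i, hi⟩ := pw a ha
    obtain ⟨j, hj⟩ := pw b hb
    rw [← mul_inv_cancel_left (e ^ i) a]
    refine commL_mul ?_ (LL_comm' hi _)
    rw [← mul_inv_cancel_left (e ^ j) b, ← commutatorElement_inv]
    refine inv_mem (commL_mul ?_ (LL_comm' hj _))
    rw [(Commute.pow_pow_self e j i).commutator_eq]; exact one_mem _
  have d3 : (LL A 3).map ι = LL T 4 := by
    change (⁅⁅LL A 1, ⊤⁆, ⊤⁆ : Subgroup A).map ι = _
    rw [map_commutator, map_commutator, d1, ← MonoidHom.range_eq_map,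
      comm_eq h (by omega) (Or.inl n2), comm_eq h (by omega) ?_]
    by_cases c : n ≤ 5
    · exact Or.inr c
    · exact Or.inl (ne 3 (by omega) (by omega) h3)
  have d : KK A 1 = (LL T 1).comap ι := by
    refine le_antisymm (fun g hg => ?_) fun g hg y hy => ?_
    · obtain ⟨i, hi⟩ := pw _ ⟨g, rfl⟩
      have k2 : ι g ∈ KK T 2 := fun y hy => by
        obtain ⟨y, hy', rfl⟩ := d1.ge hy
        rw [← map_commutatorElement, ← d3]
        exact mem_map_of_mem ι (hg y hy')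
      obtain ⟨l, rfl⟩ := (Nat.modEq_zero_iff_dvd).1 (modEq_of_pow he'
        (LL_one_le_KK 2 (h.pow_mem_one e)) (a := i) (b := 0) (by
          simpa using mul_mem (LL_one_le_KK 2 hi) (inv_mem k2)))
      rw [pow_mul] at hi
      simpa using mul_mem (pow_mem (h.pow_mem_one e) l) hi
    · rw [← mem_map_iff_mem inj, d3, map_commutatorElement]
      exact LL_comm (i := 2) (j := 1) (d1 ▸ mem_map_of_mem ι hy) hg
  have c1 : Nat.card (KK A 1) = p ^ (n - 2) := by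
    rw [← card_map_of_injective inj, d, map_comap_eq_self l1, h.card_LL le_rfl (by omega)]; rfl
  refine nf (frattini A) (KK A 1) inferInstance (char_of_forall fun α x hx => aut_mem_KK α hx) le_rfl
    ((H3.frattini_le_iff hA).2 ⟨LL_one_le_KK 1, fun x => ?_⟩) (Nat.le_mul_of_pos_left _ hp.out.pos)
    ?_ ?_
  · rw [d, mem_comap, map_pow]; exact h.pow_mem_one _
  · refine le_trans ?_ (Nat.mul_le_mul_left p (card_le_of_le (H3.commutator_le_frattini hA)))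
    rw [← card_map_of_injective (K := _root_.commutator A) inj,
      show (_root_.commutator A).map ι = LL T 2 from d1, c1,
      h.card_LL (by omega) (by omega), ← pow_succ']
    exact le_of_eq (by congr 1; omega)
  · rw [c1, Nat.card_congr (MonoidHom.ofInjective inj).toEquiv, c0, ← pow_succ']
    exact le_of_eq (by congr 1; omega)

end Cfsg.Agent.MCE
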