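import Cfsg.Agent.H90.QP2

/-! Project MCE: quadratic elements in groups with a strongly `p`-embedded subgroup. -/

set_option autoImplicit false

namespace Cfsg.Agent.MCE

open Cfsg.Agent.H90

/-- Element form of strong `p`-embedding. -/
def SE {G : Type*} [Group G] (p : ℕ) (H : Subgroup G) : Prop :=
  ∀ u ∈ H, u ≠ 1 → (∃ k, u ^ p ^ k = 1) → ∀ g, g * u * g⁻¹ ∈ H → g ∈ H

theorem SE.comm {G : Type*} [Group G] {p : ℕ} {H : Subgroup G} (se : SE p H) {u g : G}
    (hu : u ∈ H) (h1 : u ≠ 1) (hp : ∃ k, u ^ p ^ k = 1) (h : g * u = u * g) : g ∈ H :=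
  se u hu h1 hp g (by rwa [h, mul_inv_cancel_right])

variable {p : ℕ} [hp : Fact p.Prime] {R : Type*} [Ring R] [Algebra (ZMod p) R]

theorem unip_pow {y : R} {N : ℕ} (h : (y - 1) ^ N = 0) {m : ℕ} (hm : N ≤ p ^ m) :
    y ^ p ^ m = 1 := by
  have h1 := congrArg (Polynomial.aeval y)
    (sub_pow_char_pow (p := p) (Polynomial.X : Polynomial (ZMod p)) 1 m)
  simp only [map_pow, map_sub, Polynomial.aeval_X, map_one, one_pow] at h1
  rw [pow_eq_zero_of_le hm h] at h1
  exact sub_eq_zero.1 h1.symm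

variable {G : Type*} [Group G] {ρ : G →* R}

theorem pelt (inj : Function.Injective ρ) {u : G} {N : ℕ} (h : (ρ u - 1) ^ N = 0) :
    ∃ k, u ^ p ^ k = 1 :=
  ⟨N, inj (by rw [map_pow, map_one, unip_pow h (Nat.lt_pow_self hp.out.one_lt).le])⟩

theorem qe_of {x : G} (h : (ρ x - 1) * (ρ x - 1) = 0) :
    QE (ZMod p) ρ.toHomUnits.range (ρ x - 1) := by
  refine ⟨h, fun c => ⟨_, ⟨x ^ c.val, rfl⟩, ?_⟩⟩
  have : ∀ m : ℕ, ρ x ^ m = 1 + (m : ZMod p) • (ρ x - 1) := fun m => by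
    induction m with
    | zero => simp
    | succ m ih =>
      have e : ρ x = 1 + (ρ x - 1) := by simp
      rw [pow_succ, ih, Nat.cast_succ, add_smul, one_smul]
      conv_lhs => rw [add_mul, one_mul, smul_mul_assoc]; enter [2, 2, 2]; rw [e]
      rw [mul_add, h, mul_one, add_zero]; abel
  simp [this]

theorem exists_of_inG {y : R} (h : InG ρ.toHomUnits.range y) : ∃ g, ρ g = y := by
  obtain ⟨_, ⟨g, rfl⟩, e⟩ := h
  exact ⟨g, e⟩

theorem two_ne (h5 : 5 ≤ p) : (2 : ZMod p) ≠ 0 := fun e => by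
  have := Nat.le_of_dvd (by norm_num) ((ZMod.natCast_eq_zero_iff 2 p).1 (by simpa using e))
  omega

theorem three_ne (h5 : 5 ≤ p) : (3 : ZMod p) ≠ 0 := fun e => by
  have := Nat.le_of_dvd (by norm_num) ((ZMod.natCast_eq_zero_iff 3 p).1 (by simpa using e))
  omega

theorem quad0 [Module.Finite (ZMod p) R] (h5 : 5 ≤ p) (inj : Function.Injective ρ)
    {H : Subgroup G} (se : SE p H) {x y : G} (hx : x ∈ H) (x1 : x ≠ 1) (hy : y ∉ H)
    (qa : (ρ x - 1) * (ρ x - 1) = 0) (qb : (ρ y - 1) * (ρ y - 1) = 0) :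
    (ρ x - 1) * (ρ y - 1) ≠ 0 ∧ ∃ f, MU (ρ x - 1) f ∧ QE (ZMod p) ρ.toHomUnits.range f ∧
      ∀ g ∈ H, ρ g ≠ 1 + f := by
  have ha := qe_of (p := p) qa
  have hb := qe_of (p := p) qb
  have px : ∃ k, x ^ p ^ k = 1 := pelt inj (N := 2) (by rw [sq, qa])
  have pq : ∀ g c, ρ g = 1 + c → c * c = 0 → ∃ k, g ^ p ^ k = 1 := fun g c e h =>
    pelt inj (N := 2) (by rw [sq, e, add_sub_cancel_left, h])
  have ex : ρ x = 1 + (ρ x - 1) := by simp
  have ey : ρ y = 1 + (ρ y - 1) := by simp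
  have a0 : ρ x - 1 ≠ 0 := fun e => x1 (inj (by rw [map_one, ← sub_eq_zero, e]))
  generalize ρ x - 1 = a at *
  generalize ρ y - 1 = b at *
  obtain ⟨e, z, hf⟩ := fit_exists (k := ZMod p) a b
  have h3 : Nat.card (ZMod p) ≠ 3 := by rw [Nat.card_zmod]; omega
  obtain ⟨q1, q2⟩ := hf.qe (two_ne h5) h3 ha hb (one_mem _)
  rw [one_mul] at q1 q2
  have ae := comm_z_left qa hf.e_mem
  have be := comm_z_right qb hf.e_mem
  have az := comm_z_left qa hf.z'_mem
  have bz := comm_z_right qb hf.z'_mem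
  have ez := comm_adj hf.e_mem hf.z'_mem
  have ez' : e * z = z := ez.trans hf.ze
  have f0 : z * b ≠ 0 := fun h0 => by
    have eb : e * b = 0 := by rw [← hf.zz, mul_assoc, h0, mul_zero]
    obtain ⟨N, hN⟩ := hf.nil
    have hz : (a * b + b * a) ^ (N + 1) = 0 := by
      have : e * (a * b + b * a) = 0 := by
        rw [mul_add, ← mul_assoc, ← ae, mul_assoc, eb, ← mul_assoc, eb]; simp
      rw [pow_succ, ← hN, mul_assoc, this, mul_zero]
    have hU := unip_fam_sup (k := ZMod p) qa qb hz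
    have := hU.nilpotent
    have hxU : ρ.toHomUnits x ∈ fam (ZMod p) a qa ⊔ fam (ZMod p) b qb :=
      Subgroup.mem_sup_left ⟨1, by simpa using ex⟩
    have hyU : ρ.toHomUnits y ∈ fam (ZMod p) a qa ⊔ fam (ZMod p) b qb :=
      Subgroup.mem_sup_right ⟨1, by simpa using ey⟩
    have : Nontrivial ↥(fam (ZMod p) a qa ⊔ fam (ZMod p) b qb) :=
      ⟨⟨_, hxU⟩, 1, fun h => x1 (inj (by simpa using congrArg (fun u => ((u : Rˣ) : R)) (congrArg Subtype.val h)))⟩
    obtain ⟨⟨c, hc⟩, c1⟩ := (Subgroup.ne_bot_iff_exists_ne_one).1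
      (Group.IsNilpotent.center_ne_bot ↥(fam (ZMod p) a qa ⊔ fam (ZMod p) b qb))
    obtain ⟨g, hg⟩ := sup_le ha.fam_le hb.fam_le c.2
    have hg' : ρ g = ((c : Rˣ) : R) := by rw [← hg]; rfl
    have cm : ∀ t, ρ.toHomUnits t ∈ fam (ZMod p) a qa ⊔ fam (ZMod p) b qb → t * g = g * t :=
      fun t ht => inj (by
        have := congrArg (fun u => (((u : ↥(fam (ZMod p) a qa ⊔ fam (ZMod p) b qb)) : Rˣ) : R))
          (Subgroup.mem_center_iff.1 hc ⟨_, ht⟩)
        simpa [hg'] using this)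
    obtain ⟨m, hm⟩ := hU
    refine hy (se.comm (se.comm hx x1 px (cm x hxU).symm) (fun h => c1 ?_) (pelt inj (N := m) ?_)
      (cm y hyU))
    · rw [h, map_one] at hg
      exact Subtype.ext (Subtype.ext hg.symm)
    · have := Submodule.pow_mem_pow _ (mem_nn (k := ZMod p) c.2) m
      rwa [hm, Submodule.mem_bot, ← hg'] at this
  have hH : ∀ g ∈ H, ρ g ≠ 1 + z * b := fun g hg eg => hy (se.comm hg
    (fun h => f0 (by simpa [h] using eg)) (pq g _ eg q2.sq) (inj (by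
      rw [map_mul, map_mul, eg, ey]
      simp only [mul_add, add_mul, mul_one, one_mul, mul_assoc, e3 bz, qb, mul_zero]
      abel)))
  have ea : e * a = a := by
    by_contra hne
    obtain ⟨u, hu⟩ := exists_of_inG (ha.one_add.mul q1.one_sub)
    obtain ⟨g, hg⟩ := exists_of_inG q2.one_add
    have hu' : ρ u = 1 + (a - e * a) := by
      rw [hu]
      simp only [mul_sub, add_mul, mul_one, one_mul, e3 ae, mul_assoc, qa, mul_zero]
      abel
    refine hH g (se.comm (se.comm hx x1 px (inj ?_)) (fun h => hne ?_) (pq u _ hu' ?_) (inj ?_)) hg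
    · rw [map_mul, map_mul, hu', ex]
      simp only [mul_sub, sub_mul, mul_add, add_mul, mul_one, one_mul, e3 ae, mul_assoc, qa, mul_zero]
      abel
    · rw [h, map_one, left_eq_add, sub_eq_zero] at hu'
      exact hu'.symm
    · simp only [mul_sub, sub_mul, e3 ae, mul_assoc, qa, mul_zero, sub_zero]
    · rw [map_mul, map_mul, hu', hg]
      simp only [mul_sub, sub_mul, mul_add, add_mul, mul_one, one_mul, e3 be, e3 az, mul_assoc,
        e3 hf.ze, e3 ez']
      abel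
  have mu := hf.mu qa qb
  rw [ea] at mu
  refine ⟨fun h => a0 ?_, _, mu, q2, hH⟩
  rw [← mu.efe, e3 az, mul_assoc z, h, mul_zero, zero_mul]

theorem quad1 [Module.Finite (ZMod p) R] (h5 : 5 ≤ p) (inj : Function.Injective ρ)
    {H : Subgroup G} (se : SE p H) (hH : H ≠ ⊤) {x : G} (hx : x ∈ H) (x1 : x ≠ 1)
    (qa : (ρ x - 1) * (ρ x - 1) = 0) :
    ∃ f, MU (ρ x - 1) f ∧ (∃ g ∉ H, ρ g = 1 + f) ∧ ∃ h,
      ρ h = 1 + (ρ x - 1) * f - (2⁻¹ : ZMod p) • (f * (ρ x - 1)) ∧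
      ∀ u, (∃ k, u ^ p ^ k = 1) → u * x = x * u → u * h = h * u → u = 1 := by
  obtain ⟨g, hg⟩ : ∃ g, g ∉ H := by
    by_contra hc
    push Not at hc
    exact hH (eq_top_iff.2 fun g _ => hc g)
  have px : ∃ k, x ^ p ^ k = 1 := pelt inj (N := 2) (by rw [sq, qa])
  have gg : ρ g⁻¹ * ρ g = 1 := by rw [← map_mul, inv_mul_cancel, map_one]
  have e1 : ρ (g * x * g⁻¹) - 1 = ρ g * (ρ x - 1) * ρ g⁻¹ := by
    rw [mul_sub, sub_mul, mul_one, ← map_mul, ← map_mul, ← map_mul, mul_inv_cancel, map_one]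
  obtain ⟨-, f, mu, q, hf⟩ := quad0 h5 inj se hx x1 (fun h => hg (se x hx x1 px g h)) qa (by
    rw [e1]; simp only [mul_assoc, e3 gg, one_mul, z3 qa, mul_zero])
  obtain ⟨y, hy⟩ := exists_of_inG q.one_add
  have ha := qe_of (p := p) qa
  have ex : ρ x = 1 + (ρ x - 1) := by simp
  generalize ρ x - 1 = a at *
  let ι : ZMod p →ₙ+* R := (algebraMap (ZMod p) R : ZMod p →+* R)
  have hι : ∀ t, ι t = algebraMap (ZMod p) R t := fun t => rfl
  obtain ⟨φ, h0, h1, h2⟩ := mu.exists_hom' ι (fun t => (Algebra.commutes t a).symm)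
    (fun t => (Algebra.commutes t f).symm) (by simp [hι]) (by simp [hι])
  have hφ : ρ.toHomUnits.range.comap φ = ⊤ := sl2_eq_top
    (fun t => InG.mem (by rw [h1 (xu t) t rfl, hι, ← Algebra.smul_def]; exact ha.mem t))
    fun t => InG.mem (by rw [h2 (xl t) t rfl, hι, ← Algebra.smul_def]; exact q.mem t)
  have t2 := two_ne h5
  let D : Matrix.SpecialLinearGroup (Fin 2) (ZMod p) :=
    ⟨!![2, 0; 0, 2⁻¹], by simp [Matrix.det_fin_two, t2]⟩
  obtain ⟨h, hh⟩ : φ D ∈ ρ.toHomUnits.range := (hφ ▸ Subgroup.mem_top D :)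
  have hh' : ρ h = 1 + a * f - (2⁻¹ : ZMod p) • (f * a) := by
    have : ρ h = (φ D : R) := by rw [← hh]; rfl
    rw [this, h0]
    simp only [embFun, D, hι, ← Algebra.smul_def, ent00, ent01, ent10, ent11, zero_smul, add_zero]
    match_scalars <;> field_simp <;> ring
  refine ⟨f, mu, ⟨y, fun h => hf y h hy, hy⟩, h, hh', fun u pu ux uh => ?_⟩
  by_contra u1
  refine hf y (se.comm (se.comm hx x1 px ux) u1 pu (inj ?_)) hy
  have c1 : Commute (ρ u) a := by
    have := congrArg ρ ux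
    rw [map_mul, map_mul, ex, mul_add, add_mul, mul_one, one_mul, add_right_inj] at this
    exact this
  have c2 : Commute (ρ u) (ρ h - 1) :=
    Commute.sub_right (show ρ u * ρ h = ρ h * ρ u by rw [← map_mul, uh, map_mul]) (Commute.one_right _)
  have t3 := three_ne h5
  have m1 : a * f = (2 / 3 : ZMod p) • ((ρ h - 1) * (ρ h - 1) + (2⁻¹ : ZMod p) • (ρ h - 1)) := by
    rw [hh', add_sub_assoc, add_sub_cancel_left]
    simp only [mul_sub, sub_mul, mul_smul_comm, smul_mul_assoc, mul_assoc, z3 mu.ee, z3 mu.ff,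
      mul_zero, e4' mu.efe, e4' mu.fef]
    match_scalars <;> field_simp <;> ring
  have c3 : Commute (ρ u) (a * f) := by
    rw [m1]; exact ((c2.mul_right c2).add_right (c2.smul_right _)).smul_right _
  have m2 : f * a = (2 : ZMod p) • (a * f - (ρ h - 1)) := by
    rw [hh']
    match_scalars <;> field_simp <;> ring
  have c4 : Commute (ρ u) (f * a) := by
    rw [m2]; exact (c3.sub_right c2).smul_right _
  rw [map_mul, map_mul, hy, mul_add, add_mul, mul_one, one_mul, add_right_inj]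
  calc f * ρ u = f * (a * f) * ρ u := by rw [e4' mu.fef]
    _ = f * a * ρ u * f := by rw [mul_assoc, ← c3.eq, ← mul_assoc (ρ u), c1.eq]; simp only [mul_assoc]
    _ = ρ u * f := by rw [← c4.eq, mul_assoc, mu.fef]

end Cfsg.Agent.MCE
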