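import Cfsg.Agent.MCE.Ten
import Cfsg.Agent.MCE.Quad

/-! Project MCE: matrices commuting with a regular nilpotent matrix; quadratic central elements. -/

set_option autoImplicit false

namespace Cfsg.Agent.MCE

open Matrix Cfsg.Agent.H90

section mat

variable {F : Type*} [Field F] {w : ℕ} {N X : Matrix (Fin w) (Fin w) F} {k : ℕ}

theorem comm_diag (hN : Ex 1 N) (hX : X ∈ L F w k) (c : X * N = N * X) (hk : k < w) (j : ℕ) :
    ∀ i' j' : Fin w, (j' : ℕ) = j → (i' : ℕ) = j + k →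
      (X i' j' = 0 ↔ X ⟨k, hk⟩ ⟨0, by omega⟩ = 0) := by
  induction j with
  | zero =>
    intro i' j' h1 h2
    rw [show i' = ⟨k, hk⟩ from Fin.ext (by simpa using h2), show j' = ⟨0, by omega⟩ from Fin.ext h1]
  | succ j ih =>
    intro i' j' h1 h2
    have := i'.2
    have e := congrFun (congrFun c i') ⟨j, by omega⟩
    rw [lead hX hN.mem (m := j') (by omega) (by simp; omega),
      lead hN.mem hX (m := ⟨j + k, by omega⟩) (by simp; omega) (by simp)] at e
    rw [← ih ⟨j + k, by omega⟩ ⟨j, by omega⟩ rfl rfl]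
    have n1 := hN.ne j' ⟨j, by omega⟩ h1
    have n2 := hN.ne i' ⟨j + k, by omega⟩ (by simp; omega)
    refine ⟨fun h => ?_, fun h => ?_⟩
    · rw [h, zero_mul] at e
      exact (mul_eq_zero.1 e.symm).resolve_left n2
    · rw [h, mul_zero] at e
      exact (mul_eq_zero.1 e).resolve_right n1

theorem comm_succ (hN : Ex 1 N) (hX : X ∈ L F w k) (c : X * N = N * X)
    (h : ∀ hk : k < w, X ⟨k, hk⟩ ⟨0, by omega⟩ = 0) : X ∈ L F w (k + 1 : ℕ) := fun i j e => by
  have h1 := mem_L.1 hX i j e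
  have := i.2
  by_contra hc
  simp only [dg] at hc
  exact e ((comm_diag hN hX c (by omega) j i j rfl (by omega)).2 (h _))

theorem comm_ex (hN : Ex 1 N) (hX : X ∈ L F w k) (c : X * N = N * X) (hk : k < w)
    (h : X ⟨k, hk⟩ ⟨0, by omega⟩ ≠ 0) : Ex k X :=
  ⟨hX, fun i j e h' => h ((comm_diag hN hX c hk j i j rfl e).1 h')⟩

theorem exists_ex (hN : Ex 1 N) (hX : X ∈ L F w k) (c : X * N = N * X) (h0 : X ≠ 0) :
    ∃ l, k ≤ l ∧ l < w ∧ Ex l X := by
  induction hd : w - k generalizing k with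
  | zero => exact (h0 (L_eq_zero hX (by omega))).elim
  | succ d ih =>
    by_cases h : X ⟨k, by omega⟩ ⟨0, by omega⟩ = 0
    · obtain ⟨l, h1, h2⟩ := ih (comm_succ hN hX c fun _ => h) (by omega)
      exact ⟨l, by omega, h2⟩
    · exact ⟨k, le_rfl, by omega, comm_ex hN hX c _ h⟩

theorem Ex.le_of_eq_zero (hX : Ex k X) (h : X = 0) : w ≤ k := by
  by_contra hc
  exact hX.ne ⟨k, by omega⟩ ⟨0, by omega⟩ (by simp) (by rw [h]; rfl)

theorem comm_sub (hN : Ex 1 N) (hX : X ∈ L F w k) (c : X * N = N * X) :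
    ∃ a : F, X - a • N ^ k ∈ L F w (k + 1 : ℕ) ∧ (X - a • N ^ k) * N = N * (X - a • N ^ k) ∧
      (Ex k X → k < w → a ≠ 0) := by
  have c' : ∀ a : F, (X - a • N ^ k) * N = N * (X - a • N ^ k) := fun a => by
    rw [sub_mul, mul_sub, c, smul_mul_assoc, mul_smul_comm, ← pow_succ, ← pow_succ']
  have m : ∀ a : F, X - a • N ^ k ∈ L F w k := fun a =>
    sub_mem hX (Submodule.smul_mem _ _ (hN.pow k).mem)
  by_cases hk : k < w
  · have n := (hN.pow k).ne ⟨k, hk⟩ ⟨0, by omega⟩ (by simp)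
    refine ⟨X ⟨k, hk⟩ ⟨0, by omega⟩ / (N ^ k) ⟨k, hk⟩ ⟨0, by omega⟩,
      comm_succ hN (m _) (c' _) fun _ => ?_, c' _, fun h _ => div_ne_zero (h.ne _ _ (by simp)) n⟩
    rw [Matrix.sub_apply, Matrix.smul_apply, smul_eq_mul, div_mul_cancel₀ _ n, sub_self]
  · exact ⟨0, comm_succ hN (m _) (c' _) fun h => (hk h).elim, c' _, fun _ h => (hk h).elim⟩

theorem quad_of_conj (hN : Ex 1 N) (hX : Ex k X) (hk : 1 ≤ k) (hk' : (k : F) ≠ 0)
    (c : X * N = N * X) {Y Y' : Matrix (Fin w) (Fin w) F} (hY : Y' * Y = 1)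
    (h1 : Y * N * Y' = N + (1 + N) * X) (h2 : Y * X * Y' = X) : X * X = 0 := by
  have hD : (1 + N) * X ∈ L F w k := by
    rw [add_mul, one_mul]
    exact add_mem hX.mem (Fl_anti (by omega) (Fl_mul hN.mem hX.mem))
  have hD' : (1 + N) * X - X ∈ L F w (k + 1 : ℕ) := by
    rw [add_mul, one_mul, add_sub_cancel_left]
    exact Fl_anti (by omega) (Fl_mul hN.mem hX.mem)
  have cD : (1 + N) * X * N = N * ((1 + N) * X) := by
    rw [mul_assoc, c]; noncomm_ring
  generalize (1 + N) * X = D at *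
  have a1 : ∀ j : ℕ, Y * N ^ (j + 1) * Y' - N ^ (j + 1) - ((j + 1 : ℕ) : F) • (N ^ j * D) ∈
      L F w (j - 1 + 2 * k) ∧ (j = 0 → Y * N ^ (j + 1) * Y' - N ^ (j + 1) -
        ((j + 1 : ℕ) : F) • (N ^ j * D) = 0) := fun j => by
    induction j with
    | zero =>
      have : Y * N ^ (0 + 1) * Y' - N ^ (0 + 1) - ((0 + 1 : ℕ) : F) • (N ^ 0 * D) = 0 := by
        simp [h1]
      rw [this]
      exact ⟨zero_mem _, fun _ => rfl⟩
    | succ j ih =>
      refine ⟨?_, fun h => by omega⟩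
      have e1 : Y * N ^ (j + 1 + 1) * Y' = Y * N ^ (j + 1) * Y' * (N + D) := by
        rw [← h1, pow_succ N (j + 1)]
        simp only [mul_assoc, e3 hY, one_mul]
      have e2 : Y * N ^ (j + 1 + 1) * Y' - N ^ (j + 1 + 1) - ((j + 1 + 1 : ℕ) : F) • (N ^ (j + 1) * D) =
          (Y * N ^ (j + 1) * Y' - N ^ (j + 1) - ((j + 1 : ℕ) : F) • (N ^ j * D)) * (N + D) +
            ((j + 1 : ℕ) : F) • (N ^ j * D * D) := by
        rw [e1]
        simp only [sub_mul, mul_add, smul_mul_assoc, mul_assoc (N ^ j) D N, cD, ← mul_assoc (N ^ j) N,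
          ← pow_succ]
        push_cast
        module
      rw [e2]
      refine add_mem (Fl_anti (by push_cast; omega) (Fl_mul ih.1 (add_mem hN.mem
        (Fl_anti (by push_cast; omega) hD)))) (Submodule.smul_mem _ _ (Fl_anti (by push_cast; omega)
          (Fl_mul (Fl_mul (hN.pow j).mem hD) hD)))
  have a2 : ∀ d j : ℕ, w - (j + 1) = d → ∀ M ∈ L F w (j + 1 : ℕ), M * N = N * M →
      Y * M * Y' - M ∈ L F w (j + k) := fun d => by
    induction d with
    | zero =>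
      intro j hj M hM _
      rw [L_eq_zero hM (by omega)]; simp
    | succ d ih =>
      intro j hj M hM cM
      obtain ⟨a, b1, b2, -⟩ := comm_sub hN hM cM
      have := ih (j + 1) (by omega) _ b1 b2
      have e : Y * M * Y' - M = (Y * (M - a • N ^ (j + 1)) * Y' - (M - a • N ^ (j + 1))) +
          a • ((Y * N ^ (j + 1) * Y' - N ^ (j + 1) - ((j + 1 : ℕ) : F) • (N ^ j * D)) +
            ((j + 1 : ℕ) : F) • (N ^ j * D)) := by
        simp only [mul_sub, sub_mul, mul_smul_comm, smul_mul_assoc]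
        module
      rw [e]
      refine add_mem (Fl_anti (by push_cast; omega) this) (Submodule.smul_mem _ _ (add_mem ?_
        (Submodule.smul_mem _ _ (Fl_mul (hN.pow j).mem hD))))
      rcases Nat.eq_zero_or_pos j with rfl | hj0
      · rw [(a1 0).2 rfl]; exact zero_mem _
      · exact Fl_anti (by omega) (a1 j).1
  by_contra hne
  have hw : 2 * k < w := by
    by_contra hc
    exact hne (L_eq_zero (Fl_mul hX.mem hX.mem) (by omega))
  obtain ⟨j, rfl⟩ : ∃ j, k = j + 1 := ⟨k - 1, by omega⟩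
  obtain ⟨a, b1, b2, b3⟩ := comm_sub hN hX.mem c
  have b4 := a2 _ (j + 1) rfl _ b1 b2
  have b5 : Y * N ^ (j + 1) * Y' - N ^ (j + 1) - ((j + 1 : ℕ) : F) • (N ^ j * D) ∈
      L F w (2 * j + 2) := by
    rcases Nat.eq_zero_or_pos j with rfl | hj0
    · rw [(a1 0).2 rfl]; exact zero_mem _
    · exact Fl_anti (by push_cast; omega) (a1 j).1
  have e : (a * ((j + 1 : ℕ) : F)) • (N ^ j * X) =
      -(Y * (X - a • N ^ (j + 1)) * Y' - (X - a • N ^ (j + 1))) -
        a • (Y * N ^ (j + 1) * Y' - N ^ (j + 1) - ((j + 1 : ℕ) : F) • (N ^ j * D)) -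
        (a * ((j + 1 : ℕ) : F)) • (N ^ j * (D - X)) := by
    simp only [mul_sub, sub_mul, mul_smul_comm, smul_mul_assoc, h2]
    module
  have b6 : (a * ((j + 1 : ℕ) : F)) • (N ^ j * X) ∈ L F w (2 * j + 2) := by
    rw [e]
    exact sub_mem (sub_mem (neg_mem (Fl_anti (by push_cast; omega) b4)) (Submodule.smul_mem _ _ b5))
      (Submodule.smul_mem _ _ (Fl_anti (by push_cast; omega) (Fl_mul (hN.pow j).mem hD')))
  have b7 := L_zero_of b6 (i := ⟨2 * j + 1, by omega⟩) (j := ⟨0, by omega⟩) (by simp)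
  rw [Matrix.smul_apply, smul_eq_mul] at b7
  exact mul_ne_zero (mul_ne_zero (b3 hX (by omega)) hk')
    (((hN.pow j).mul hX).ne _ _ (by simp; omega)) b7

end mat

variable {p : ℕ} [hp : Fact p.Prime] {w : ℕ} {G : Type*} [Group G]

/-- A faithful representation with a regular unipotent element. -/
structure St (ρ : G →* Matrix (Fin w) (Fin w) (ZMod p)) (P : Subgroup G) (s : G) : Prop where
  inj : Function.Injective ρ
  mem : ∀ g, g ∈ P ↔ ρ g - 1 ∈ L (ZMod p) w 1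
  reg : Ex 1 (ρ s - 1)

variable {ρ : G →* Matrix (Fin w) (Fin w) (ZMod p)} {P H : Subgroup G} {s x y : G}

theorem comm_rho (h : x * y = y * x) : (ρ x - 1) * (ρ y - 1) = (ρ y - 1) * (ρ x - 1) := by
  simp only [mul_sub, sub_mul, ← map_mul, h, mul_one, one_mul]; abel

theorem conj_rho (g x : G) : ρ (g * x * g⁻¹) - 1 = ρ g * (ρ x - 1) * ρ g⁻¹ := by
  rw [mul_sub, sub_mul, mul_one, ← map_mul, ← map_mul, ← map_mul, mul_inv_cancel, map_one]

theorem inv_tri [Finite G] {g : G} (h : ρ g ∈ L (ZMod p) w 0) : ρ g⁻¹ ∈ L (ZMod p) w 0 := by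
  have : g⁻¹ = g ^ (orderOf g - 1) := by
    rw [inv_eq_iff_mul_eq_one, ← pow_succ', Nat.sub_add_cancel (orderOf_pos g), pow_orderOf_eq_one]
  rw [this, map_pow]
  simpa using Fl_pow h _

namespace St

variable (h : St ρ P s)
include h

theorem smem : s ∈ P := (h.mem s).2 h.reg.mem

theorem ne_zero (x1 : x ≠ 1) : ρ x - 1 ≠ 0 := fun e =>
  x1 (h.inj (by rw [map_one, ← sub_eq_zero, e]))

theorem pel (hx : x ∈ P) : ∃ k, x ^ p ^ k = 1 :=
  pelt h.inj (N := w) (L_eq_zero (Fl_pow ((h.mem x).1 hx) w) (by omega))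

theorem conj_mem [Finite G] {g : G} (hg : ρ g ∈ L (ZMod p) w 0) (hx : x ∈ P) : g * x * g⁻¹ ∈ P := by
  rw [h.mem, conj_rho]
  simpa using Fl_mul (Fl_mul hg ((h.mem x).1 hx)) (inv_tri hg)

theorem exists_ex (hx : x ∈ P) (x1 : x ≠ 1) (c : x * s = s * x) :
    ∃ l, 1 ≤ l ∧ l < w ∧ Ex l (ρ x - 1) :=
  MCE.exists_ex h.reg ((h.mem x).1 hx) (comm_rho c) (h.ne_zero x1)

theorem ent_mul (hx : x ∈ P) (hy : y ∈ P) {i j : Fin w} (e : (i : ℕ) = j + 1) :
    (ρ (x * y) - 1) i j = (ρ x - 1) i j + (ρ y - 1) i j := by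
  have : ρ (x * y) - 1 = (ρ x - 1) + (ρ y - 1) + (ρ x - 1) * (ρ y - 1) := by
    rw [map_mul]; noncomm_ring
  rw [this, Matrix.add_apply, Matrix.add_apply, L_zero_of (Fl_mul ((h.mem x).1 hx) ((h.mem y).1 hy)) (by omega),
    add_zero]

theorem ent_pow (hx : x ∈ P) {i j : Fin w} (e : (i : ℕ) = j + 1) (m : ℕ) :
    (ρ (x ^ m) - 1) i j = m * (ρ x - 1) i j := by
  induction m with
  | zero => simp
  | succ m ih => rw [pow_succ, h.ent_mul (pow_mem hx m) hx e, ih]; push_cast; ring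

theorem small [Finite G] (h5 : 5 ≤ p) (se : SE p H) (hH : H ≠ ⊤) (hPH : P ≤ H) (hx : x ∈ P)
    (x1 : x ≠ 1) (cx : ∀ u ∈ P, u * x = x * u) (q : (ρ x - 1) * (ρ x - 1) = 0) : w ≤ 3 := by
  obtain ⟨k, k1, kw, hk⟩ := h.exists_ex hx x1 (cx s h.smem).symm
  have k2 := (hk.mul hk).le_of_eq_zero q
  obtain ⟨f, mu, -, g, hg, hc⟩ := quad1 h5 h.inj se hH (hPH hx) x1 q
  generalize ρ x - 1 = a at hk mu hg
  have t2 := two_ne h5
  have z1 : Zr (w - k) 0 (ρ g - (2⁻¹ : ZMod p) • 1) := Zr.row hk (by omega) (by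
    have : a * (ρ g - (2⁻¹ : ZMod p) • 1) = 0 := by
      rw [hg]
      simp only [mul_sub, mul_add, mul_one, mul_smul_comm, z3 mu.ee, e4' mu.efe]
      match_scalars; field_simp; ring
    rw [this]; exact fun _ _ _ _ => rfl)
  have z2 : Zr w (0 + k) (ρ g - (2 : ZMod p) • 1) := Zr.col hk (by
    have : (ρ g - (2 : ZMod p) • 1) * a = 0 := by
      rw [hg]
      simp only [sub_mul, add_mul, one_mul, smul_mul_assoc, mul_assoc, mu.ee, e4' mu.efe, mul_zero]
      module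
    rw [this]; exact fun _ _ _ _ => rfl)
  have z3 : Zr k (w - k) (ρ g - 1) := by
    have a1 : Zr (0 + k) (w - k) (a * f) := Zr.left hk.mem fun i j hi _ => by omega
    have a2 : Zr k (w - k) (f * a) := Zr.mul (b := w) (fun i j _ hj => by omega)
      fun i j _ hj => L_zero_of hk.mem (by omega)
    intro i j hi hj
    rw [hg, add_sub_assoc, add_sub_cancel_left, Matrix.sub_apply, Matrix.smul_apply,
      a1 i j (by omega) hj, a2 i j hi hj]
    simp
  have tr : ρ g ∈ L (ZMod p) w 0 := fun i j e => by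
    by_contra hc
    simp only [dg] at hc
    have hij : i ≠ j := fun e => by rw [e] at hc; omega
    refine e ?_
    by_cases c1 : (i : ℕ) < w - k
    · simpa [hij] using z1 i j c1 (by omega)
    by_cases c2 : k ≤ (j : ℕ)
    · simpa [hij] using z2 i j i.2 (by omega)
    · simpa [hij] using z3 i j (by omega) (by omega)
  by_contra hw
  obtain ⟨i, j, e, hij, hj⟩ : ∃ i j : Fin w, (i : ℕ) = j + 1 ∧ ρ g i i = ρ g j j ∧ ρ g j j ≠ 0 := by
    by_cases c1 : 2 ≤ w - k
    · have a1 := z1 ⟨0, by omega⟩ ⟨0, by omega⟩ (by simp; omega) (by simp)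
      have a2 := z1 ⟨1, by omega⟩ ⟨1, by omega⟩ (by simp; omega) (by simp)
      simp only [Matrix.sub_apply, Matrix.smul_apply, one_apply_eq, smul_eq_mul, mul_one,
        sub_eq_zero] at a1 a2
      exact ⟨⟨1, by omega⟩, ⟨0, by omega⟩, rfl, a2.trans a1.symm, a1 ▸ inv_ne_zero t2⟩
    · have a1 := z3 ⟨1, by omega⟩ ⟨1, by omega⟩ (by simp; omega) (by simp; omega)
      have a2 := z3 ⟨2, by omega⟩ ⟨2, by omega⟩ (by simp; omega) (by simp; omega)
      simp only [Matrix.sub_apply, one_apply_eq, sub_eq_zero] at a1 a2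
      exact ⟨⟨2, by omega⟩, ⟨1, by omega⟩, rfl, a2.trans a1.symm, a1 ▸ one_ne_zero⟩
  let θ : P → P := fun u => ⟨(u : G)⁻¹ * (g * u * g⁻¹), mul_mem (inv_mem u.2) (h.conj_mem tr u.2)⟩
  have hθ : Function.Injective θ := fun u v e => by
    have e1 : (u : G)⁻¹ * (g * u * g⁻¹) = (v : G)⁻¹ * (g * v * g⁻¹) := congrArg Subtype.val e
    have hm : (v : G) * (u : G)⁻¹ ∈ P := mul_mem v.2 (inv_mem u.2)
    have := hc _ (h.pel hm) (cx _ hm) (by
      calc (v : G) * (u : G)⁻¹ * g = v * ((u : G)⁻¹ * (g * u * g⁻¹)) * g * (u : G)⁻¹ := by group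
        _ = _ := by rw [e1]; group)
    exact Subtype.ext (mul_inv_eq_one.1 this).symm
  obtain ⟨u, hu⟩ := Finite.injective_iff_surjective.1 hθ ⟨s, h.smem⟩
  have e1 : (u : G) * s = g * u * g⁻¹ := by
    rw [← show (u : G)⁻¹ * (g * u * g⁻¹) = s from congrArg Subtype.val hu]; group
  have e2 : (ρ (u * s) - 1) * ρ g = ρ g * (ρ u - 1) := by
    rw [e1, conj_rho, mul_assoc, ← map_mul, inv_mul_cancel, map_one, mul_one]
  have e3 := congrFun (congrFun e2 i) j
  rw [lead ((h.mem _).1 (mul_mem u.2 h.smem)) tr (m := j) (by omega) (by omega),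
    lead tr ((h.mem _).1 u.2) (m := i) (by omega) (by omega), h.ent_mul u.2 h.smem e, hij] at e3
  exact mul_ne_zero (h.reg.ne i j e) hj (by linear_combination e3)

theorem caseB [Finite G] (h5 : 5 ≤ p) (hw : w < p) (se : SE p H) (hH : H ≠ ⊤) (hPH : P ≤ H)
    (hx : x ∈ P) (x1 : x ≠ 1) (cx : ∀ u ∈ P, u * x = x * u) (hy : y ∈ P)
    (e : y * s * y⁻¹ = s * x) : False := by
  obtain ⟨k, k1, kw, hk⟩ := h.exists_ex hx x1 (cx s h.smem).symm
  have q : (ρ x - 1) * (ρ x - 1) = 0 := quad_of_conj h.reg hk k1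
    (fun e => by have := Nat.le_of_dvd k1 ((ZMod.natCast_eq_zero_iff k p).1 e); omega)
    (comm_rho (cx s h.smem).symm) (Y := ρ y) (Y' := ρ y⁻¹)
    (by rw [← map_mul, inv_mul_cancel, map_one])
    (by rw [← conj_rho, e, map_mul]; noncomm_ring) (by rw [← conj_rho, cx y hy, mul_inv_cancel_right])
  have w3 := h.small h5 se hH hPH hx x1 cx q
  have k2 := (hk.mul hk).le_of_eq_zero q
  have nc : ∀ u ∈ P, ρ u - 1 ∈ L (ZMod p) w (w - 1) → ∀ m : ℕ, u ≠ y * s ^ m := fun u hu hu' m e' => by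
    have c : u * s = s * u := h.inj (by
      have a1 := L_eq_zero (Fl_mul hu' h.reg.mem) (by omega)
      have a2 := L_eq_zero (Fl_mul h.reg.mem hu') (by omega)
      rw [map_mul, map_mul]
      linear_combination (norm := noncomm_ring) a1 - a2)
    rw [e', mul_assoc, ← pow_succ, pow_succ', ← mul_assoc, ← mul_assoc, mul_left_inj] at c
    rw [c, mul_inv_cancel_right, left_eq_mul] at e
    exact x1 e
  obtain rfl : w = 3 := by
    by_contra hc
    exact nc y hy (Fl_anti (by omega) ((h.mem y).1 hy)) 0 (by simp)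
  obtain rfl : k = 2 := by omega
  obtain ⟨f, mu, ⟨g, hg, hgf⟩, -⟩ := quad1 h5 h.inj se hH (hPH hx) x1 q
  have n1 := h.reg.ne 1 0 rfl
  set m := (-(ρ y - 1) 1 0 / (ρ s - 1) 1 0).val with hm
  have y1 : y * s ^ m ∈ P := mul_mem hy (pow_mem h.smem m)
  have y2 : (ρ (y * s ^ m) - 1) 1 0 = 0 := by
    rw [h.ent_mul hy (pow_mem h.smem m) rfl, h.ent_pow h.smem rfl, hm, ZMod.natCast_zmod_val]
    field_simp; ring
  have y3 := (h.mem _).1 y1
  have y4 : (ρ (y * s ^ m) - 1) 2 1 ≠ 0 := fun e => nc _ y1 (fun i j e' => by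
    have := y3 i j e'
    fin_cases i <;> fin_cases j <;> simp_all [dg]) m rfl
  generalize y * s ^ m = v at y1 y2 y3 y4
  have sh : ∀ A ∈ L (ZMod p) 3 1, A = !![0, 0, 0; A 1 0, 0, 0; A 2 0, A 2 1, 0] := fun A hA => by
    ext i j
    fin_cases i <;> fin_cases j <;> first | rfl | exact L_zero_of hA (by simp)
  have x2 := sh _ ((h.mem x).1 hx)
  rw [L_zero_of hk.mem (i := 1) (j := 0) (by simp), L_zero_of hk.mem (i := 2) (j := 1) (by simp)] at x2
  have x3 := hk.ne 2 0 rfl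
  have v2 := sh _ y3
  rw [y2] at v2
  have ff := mu.fef
  generalize (ρ x - 1) 2 0 = c at x2 x3
  generalize (ρ v - 1) 2 0 = c' at v2
  generalize (ρ v - 1) 2 1 = η at v2 y4
  set l := ((-η * c * f 1 2 - c') / c).val with hl
  have x4 : ∀ m : ℕ, ρ (x ^ m) = 1 + !![0, 0, 0; 0, 0, 0; m * c, 0, 0] := fun m => by
    induction m with
    | zero => ext i j; fin_cases i <;> fin_cases j <;> simp
    | succ m ih =>
      rw [pow_succ, map_mul, ih, sub_eq_iff_eq_add'.1 x2]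
      ext i j
      fin_cases i <;> fin_cases j <;> simp [mul_apply, Fin.sum_univ_three, one_apply]
      ring
  have v3 : ρ (v * x ^ l) - 1 = !![0, 0, 0; 0, 0, 0; -η * c * f 1 2, η, 0] := by
    rw [map_mul, x4, sub_eq_iff_eq_add'.1 v2, hl, ZMod.natCast_zmod_val]
    ext i j
    fin_cases i <;> fin_cases j <;> simp [mul_apply, Fin.sum_univ_three, one_apply]
    field_simp; ring
  refine (quad0 h5 h.inj se (hPH (mul_mem y1 (pow_mem hx l))) (fun e => y4 ?_) hg ?_ ?_).1 ?_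
  · rw [e, map_one, sub_self] at v3
    simpa using (congrFun (congrFun v3 2) 1).symm
  · rw [v3]
    ext i j
    fin_cases i <;> fin_cases j <;> simp [mul_apply, Fin.sum_univ_three]
  · rw [hgf, add_sub_cancel_left, mu.ff]
  · rw [v3, hgf, add_sub_cancel_left]
    rw [x2] at ff
    ext i j
    have := congrFun (congrFun ff 1) j
    simp [mul_apply, Fin.sum_univ_three] at this
    fin_cases i <;> simp [mul_apply, Fin.sum_univ_three]
    linear_combination -η * this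

end St

end Cfsg.Agent.MCE
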