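import Cfsg.Agent.MCE.Lin1

/-! Project MCE: the case of an elementary abelian Sylow subgroup of order `p ^ 2`. -/

set_option autoImplicit false

namespace Cfsg.Agent.MCE

open Matrix

section mat

variable {F : Type*} [Field F] {w : ℕ}

theorem ten' {G : Type*} [Group G] [Finite G] (p : ℕ) [hp : Fact p.Prime] [CharP F p]
    (ρ : G →* Matrix (Fin w) (Fin w) F) (B A : Subgroup G) (hAB : A ≤ B)
    (free : ∀ u ∈ A, ∀ g, g⁻¹ * u * g ∈ B → u = 1 ∨ g ∈ B) {s x : G} {r : ℕ} (hr : r = 1 ∨ r = p)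
    (hs : Ex 1 (ρ s - 1)) (hs' : ρ s⁻¹ ∈ L F w 0) (hx : ρ x - 1 ∈ L F w 2)
    (hx' : ρ x⁻¹ ∈ L F w 0) (ψ : Fin p × Fin r ≃ A)
    (hψ : ∀ ij, (ψ ij : G) = s ^ (ij.1 : ℕ) * x ^ (ij.2 : ℕ))
    {t : Matrix (Fin w) (Fin w) F} (ht : Ex 1 t) {e : ℕ}
    (hB : ∀ b ∈ B, ∃ a : F, a ^ e = 1 ∧ ρ b * t = a • (t * ρ b)) (hw : 2 ≤ w) (he : 1 ≤ e)
    (h : 2 * e + w < p + 1 + 2 * (r - 1)) : ∃ a, 0 < a ∧ a < w ∧ ∀ g, Zr a a (ρ g) := by
  have h1 := Nat.div_mul_le_self (e - 1) (w - 1)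
  have h2 := Nat.lt_div_mul_add (a := e - 1) (show 0 < w - 1 by omega)
  have := hp.out.one_le
  refine ten p ρ B A hAB free hr hs hs' hx hx' ψ hψ ht hB hw (m := (e - 1) / (w - 1)) (by omega)
    ?_ ?_ <;> rw [Nat.succ_mul] <;> omega

/-- The diagonal block starting at `a`. -/
def sec (a u : ℕ) (h : a + u ≤ w) (M : Matrix (Fin w) (Fin w) F) : Matrix (Fin u) (Fin u) F :=
  Matrix.of fun i j => M ⟨a + i, by omega⟩ ⟨a + j, by omega⟩

variable {a u : ℕ} {h : a + u ≤ w} {M N : Matrix (Fin w) (Fin w) F}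

theorem sec_mul (hM : Zr (a + u) (a + u) M) (hN : Zr a a N) :
    sec a u h (M * N) = sec a u h M * sec a u h N := by
  ext i j
  simp only [sec, of_apply, mul_apply]
  refine (Fintype.sum_of_injective (fun i : Fin u => (⟨a + i, by omega⟩ : Fin w))
    (fun i j e => Fin.ext (by simpa using e)) _ _ (fun l hl => ?_) fun _ => rfl).symm
  by_cases c : (l : ℕ) < a
  · rw [hN l _ c (by simp), mul_zero]
  · rw [hM _ l (by simp) ?_, zero_mul]
    by_contra hc
    exact hl ⟨⟨l - a, by omega⟩, Fin.ext (by simp; omega)⟩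

theorem sec_one : sec a u h (1 : Matrix (Fin w) (Fin w) F) = 1 := by
  ext i j
  simp [sec, one_apply, Fin.ext_iff]

theorem sec_sub_one : sec a u h M - 1 = sec a u h (M - 1) := by
  rw [← sec_one (h := h)]; rfl

theorem sec_L {d : ℤ} (hM : M ∈ L F w d) : sec a u h M ∈ L F u d := fun i j e => by
  have := mem_L.1 hM _ _ e
  simp only [dg] at this ⊢
  omega

theorem sec_ex {k : ℕ} (hM : Ex k M) : Ex k (sec a u h M) :=
  ⟨sec_L hM.mem, fun i j e => hM.ne _ _ (by simp; omega)⟩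

theorem Zr.of_sec {c : ℕ} (h1 : Zr a a M) (h2 : Zr (a + u) (a + u) M) (hc : c < u)
    (h3 : Zr c c (sec a u h M)) : Zr (a + c) (a + c) M := fun i j hi hj => by
  by_cases c1 : (i : ℕ) < a
  · exact h1 i j c1 (by omega)
  by_cases c2 : a + u ≤ (j : ℕ)
  · exact h2 i j (by omega) c2
  · have := h3 ⟨i - a, by omega⟩ ⟨j - a, by omega⟩ (by simp; omega) (by simp; omega)
    simp only [sec, of_apply] at this
    convert this <;> omega

theorem diag_mul (hM : M ∈ L F w 0) (hN : N ∈ L F w 0) (i : Fin w) : (M * N) i i = M i i * N i i :=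
  lead hM hN (by omega) (by omega)

theorem diag_pow (hM : M ∈ L F w 0) (i : Fin w) (m : ℕ) : (M ^ m) i i = M i i ^ m := by
  induction m with
  | zero => simp
  | succ m ih => rw [pow_succ, diag_mul (by simpa using Fl_pow hM m) hM, ih, pow_succ]

theorem eig_pow {t : Matrix (Fin w) (Fin w) F} {c : F} (e : M * t = c • (t * M)) (k : ℕ) :
    M * t ^ k = c ^ k • (t ^ k * M) := by
  induction k with
  | zero => simp
  | succ k ih =>
    rw [pow_succ, ← mul_assoc, ih, smul_mul_assoc, mul_assoc, e, mul_smul_comm, smul_smul,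
      ← pow_succ, ← mul_assoc]

end mat

variable {p : ℕ} [hp : Fact p.Prime] {w : ℕ} {G : Type*} [Group G] [Finite G]

/-- The stabilizer of the flag. -/
def Bor (ρ : G →* Matrix (Fin w) (Fin w) (ZMod p)) : Subgroup G where
  carrier := {g | ρ g ∈ L (ZMod p) w 0}
  one_mem' := by simpa using Fl_one
  mul_mem' := fun {a b} ha hb => by simpa using Fl_mul ha hb
  inv_mem' := inv_tri

variable {ρ : G →* Matrix (Fin w) (Fin w) (ZMod p)} {P H : Subgroup G} {s x y : G}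

theorem diag_ne {g : G} (hg : g ∈ Bor ρ) (i : Fin w) : ρ g i i ≠ 0 := fun e => by
  have := diag_mul hg (inv_tri hg) i
  rw [← map_mul, mul_inv_cancel, map_one, e] at this
  simp at this

namespace St

variable (h : St ρ P s)
include h

theorem le_Bor : P ≤ Bor ρ := fun g hg => Fl_of_sub_one (by omega) ((h.mem g).1 hg)

theorem mem_of_pel {g : G} (hg : g ∈ Bor ρ) (h1 : ∃ k, g ^ p ^ k = 1) : g ∈ P := by
  obtain ⟨k, hk⟩ := h1
  refine (h.mem g).2 fun i j e => ?_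
  by_cases c : i = j
  · subst c
    have := diag_pow hg i (p ^ k)
    rw [← map_pow, hk, map_one, ZMod.pow_card_pow] at this
    exact (e (by rw [Matrix.sub_apply, this, sub_self])).elim
  · have := hg i j (by simpa [c] using e)
    have : (i : ℕ) ≠ j := fun e => c (Fin.ext e)
    simp only [dg] at *
    omega

omit [Finite G] in
theorem pel_conj (hx : x ∈ P) (g : G) : ∃ k, (g * x * g⁻¹) ^ p ^ k = 1 := by
  obtain ⟨k, hk⟩ := h.pel hx
  exact ⟨k, by rw [conj_pow, hk]; simp⟩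

theorem mem_Bor (hx : Ex 1 (ρ x - 1)) {g : G} (hg : g * x * g⁻¹ ∈ P) : g ∈ Bor ρ :=
  tri hx ((h.mem _).1 hg) (by
    rw [conj_rho, mul_assoc, ← map_mul, inv_mul_cancel, map_one, mul_one])

theorem free0 (hx : x ∈ P) (hx' : Ex 1 (ρ x - 1)) {g : G} (hg : g⁻¹ * x * g ∈ Bor ρ) :
    g ∈ Bor ρ :=
  (Bor ρ).inv_mem_iff.1 (h.mem_Bor hx' (h.mem_of_pel (by rwa [inv_inv]) (h.pel_conj hx _)))

omit [Finite G] in
theorem pow_p (hw : w ≤ p) (hx : x ∈ P) : x ^ p = 1 := h.inj (by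
  have := unip_pow (L_eq_zero (Fl_pow ((h.mem x).1 hx) w) (by omega)) (m := 1) (by simpa using hw)
  rwa [pow_one, ← map_pow, ← map_one ρ] at this)

theorem exists_t (hw : 2 ≤ w) (cP : ∀ u ∈ P, ∀ v ∈ P, u * v = v * u) (hi : ¬ p ∣ P.index) :
    ∃ t, Ex 1 t ∧ ∀ b ∈ Bor ρ, ∃ a : ZMod p, a ≠ 0 ∧ ρ b * t = a • (t * ρ b) := by
  classical
  have := Fintype.ofFinite (Bor ρ ⧸ P.subgroupOf (Bor ρ))
  let i0 : Fin w := ⟨0, by omega⟩
  let i1 : Fin w := ⟨1, by omega⟩
  let α : Bor ρ → ZMod p := fun b => ρ b i1 i1 / ρ b i0 i0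
  have α0 : ∀ b, α b ≠ 0 := fun b => div_ne_zero (diag_ne b.2 _) (diag_ne b.2 _)
  have αm : ∀ b c, α (b * c) = α b * α c := fun b c => by
    simp only [α, Subgroup.coe_mul, map_mul, diag_mul b.2 c.2]
    rw [div_mul_div_comm]
  let φ : Bor ρ → Matrix (Fin w) (Fin w) (ZMod p) := fun b => (α b)⁻¹ • (ρ (b * s * (b : G)⁻¹) - 1)
  have hφ : ∀ b, ∀ u ∈ P.subgroupOf (Bor ρ), φ (b * u) = φ b := fun b u hu => by
    have d : ∀ i, ρ u i i = 1 := fun i => by
      have := L_zero_of ((h.mem _).1 hu) (i := i) (j := i) (by omega)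
      rwa [Matrix.sub_apply, one_apply_eq, sub_eq_zero] at this
    have e : ((b * u : Bor ρ) : G) * s * ((b * u : Bor ρ) : G)⁻¹ = b * s * (b : G)⁻¹ := by
      rw [Subgroup.coe_mul, mul_assoc (b : G), cP (u : G) hu s h.smem]; group
    simp only [φ, αm, e]
    simp [α, d]
  have m : ∀ b : Bor ρ, b * s * (b : G)⁻¹ ∈ P := fun b => h.conj_mem b.2 h.smem
  refine ⟨∑ q : Bor ρ ⧸ P.subgroupOf (Bor ρ), φ q.out, comm_ex h.reg (Submodule.sum_mem _ fun q _ =>
    Submodule.smul_mem _ _ ((h.mem _).1 (m _))) ?_ (by omega) ?_, fun b hb => ⟨α ⟨b, hb⟩, α0 _, ?_⟩⟩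
  · rw [Finset.sum_mul, Finset.mul_sum]
    exact Finset.sum_congr rfl fun q _ => by
      simp only [φ]
      rw [smul_mul_assoc, mul_smul_comm, comm_rho (cP _ (m _) s h.smem)]
  · have e : ∀ b, φ b i1 i0 = (ρ s - 1) i1 i0 := fun b => by
      have e2 : (ρ (b * s * (b : G)⁻¹) - 1) * ρ b = ρ b * (ρ s - 1) := by
        rw [conj_rho, mul_assoc, ← map_mul, inv_mul_cancel, map_one, mul_one]
      have e3 := congrFun (congrFun e2 i1) i0
      rw [lead ((h.mem _).1 (m b)) b.2 (m := i0) (by simp [i0, i1]) (by omega),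
        lead b.2 h.reg.mem (m := i1) (by omega) (by simp [i0, i1])] at e3
      have := diag_ne b.2 i0
      have := diag_ne b.2 i1
      simp only [φ, α, Matrix.smul_apply, smul_eq_mul]
      field_simp
      linear_combination e3
    change (∑ q : Bor ρ ⧸ P.subgroupOf (Bor ρ), φ q.out) i1 i0 ≠ 0
    rw [Matrix.sum_apply]
    simp only [e, Finset.sum_const, nsmul_eq_mul]
    refine mul_ne_zero (fun e => hi (((ZMod.natCast_eq_zero_iff _ p).1 e).trans ?_))
      (h.reg.ne _ _ rfl)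
    rw [Finset.card_univ, ← Nat.card_eq_fintype_card]
    exact Subgroup.relIndex_dvd_index_of_le h.le_Bor
  · conv_rhs => rw [← sum_out _ φ hφ ⟨b, hb⟩]
    rw [Finset.mul_sum, Finset.sum_mul, Finset.smul_sum]
    refine Finset.sum_congr rfl fun q _ => ?_
    simp only [φ, αm, Subgroup.coe_mul, conj_rho, mul_smul_comm, smul_mul_assoc, smul_smul]
    rw [mul_inv, mul_inv_cancel_left₀ (α0 _), mul_assoc _ (ρ _) (ρ b), ← map_mul,
      _root_.mul_inv_rev, inv_mul_cancel_right, map_mul]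
    simp only [mul_assoc]

theorem cent_le (h5 : 5 ≤ p) (hw : w < p) (se : SE p H) (hH : H ≠ ⊤) (hPH : P ≤ H)
    (cP : ∀ u ∈ P, ∀ v ∈ P, u * v = v * u) (hi : ¬ p ∣ P.index) (hx : x ∈ P) (x1 : x ≠ 1) :
    Subgroup.centralizer {x} ≤ Bor ρ := by
  classical
  obtain ⟨k, k1, kw, hk⟩ := h.exists_ex hx x1 (cP x hx s h.smem)
  have cm : ∀ g ∈ Subgroup.centralizer {x}, ρ g * (ρ x - 1) = (ρ x - 1) * ρ g := fun g hg => by
    rw [mul_sub, sub_mul, ← map_mul, ← map_mul, Subgroup.mem_centralizer_singleton_iff.1 hg,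
      mul_one, one_mul]
  let I : ℕ → Prop := fun a => ∀ g ∈ Subgroup.centralizer {x}, Zr a a (ρ g)
  have I0 : I 0 := fun g _ i j hi _ => by omega
  have Iw : ∀ a, w ≤ a → I a := fun a ha g _ i j _ hj => by omega
  have Ik : ∀ a, I a → I (a + k) := fun a ha g hg => (ha g hg).step hk hk.mem (cm g hg)
  suffices ∀ a, I a from fun g hg => mem_L_zero.2 fun a => this a g hg
  intro a
  induction a with
  | zero => exact I0
  | succ a ih =>
  by_contra hn
  have k2 : 2 ≤ k := by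
    by_contra hc
    obtain rfl : k = 1 := by omega
    exact hn (Ik a ih)
  by_cases q : w ≤ 2 * k
  · have := h.small h5 se hH hPH hx x1 (fun u hu => cP u hu x hx)
      (L_eq_zero (Fl_mul hk.mem hk.mem) (by omega))
    obtain rfl : k = 2 := by omega
    match a with
    | 0 => exact hn fun g hg => Zr.row hk (by omega) (cm g hg ▸ Zr.mul (b := 3)
        (fun i j _ hj => by omega) fun i j _ hj => L_zero_of hk.mem (by omega))
    | 1 => exact hn (Ik 0 I0)
    | (a + 2) => exact hn (Iw _ (by omega))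
  have aw : a + 1 < w := by
    by_contra hc
    exact hn (Iw _ (by omega))
  have hex : ∃ u, 0 < u ∧ I (a + u) := ⟨k, k1, Ik a ih⟩
  obtain ⟨u0, hu⟩ := Nat.find_spec hex
  have uk : Nat.find hex ≤ k := Nat.find_min' hex ⟨k1, Ik a ih⟩
  have uw : Nat.find hex ≤ w - a := Nat.find_min' hex ⟨by omega, Iw _ (by omega)⟩
  have umin := fun m => Nat.find_min hex (m := m)
  generalize Nat.find hex = u at *
  have u2 : 2 ≤ u := by
    by_contra hc
    obtain rfl : u = 1 := by omega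
    exact hn hu
  have hau : a + u ≤ w := by omega
  let σ : Subgroup.centralizer {x} →* Matrix (Fin u) (Fin u) (ZMod p) :=
    { toFun := fun g => sec a u hau (ρ g)
      map_one' := by simpa using sec_one
      map_mul' := fun g g' => by simpa using sec_mul (hu g g.2) (ih g' g'.2) }
  have hσ : ∀ g, σ g = sec a u hau (ρ g) := fun _ => rfl
  obtain ⟨t, ht, hB⟩ := h.exists_t (by omega) cP hi
  let s' : Subgroup.centralizer {x} := ⟨s, Subgroup.mem_centralizer_singleton_iff.2 (cP s h.smem x hx)⟩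
  have s1 : s ≠ 1 := fun e => h.reg.ne ⟨1, by omega⟩ ⟨0, by omega⟩ rfl (by simp [e])
  have so : orderOf s' = p := orderOf_eq_prime (Subtype.ext (h.pow_p hw.le h.smem))
    fun e => s1 (congrArg Subtype.val e)
  refine (ten' p σ ((Bor ρ).subgroupOf _) (Subgroup.zpowers s')
    (Subgroup.zpowers_le.2 (h.le_Bor h.smem)) (fun v hv g hg => ?_) (s := s') (x := 1) (r := 1)
    (Or.inl rfl) (by rw [hσ, sec_sub_one]; exact sec_ex h.reg)
    (sec_L (h := hau) (inv_tri (h.le_Bor h.smem))) (by simp) (by simpa using Fl_one)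
    ((Equiv.prodUnique _ _).trans ((finCongr so.symm).trans
      (finEquivZPowers (isOfFinOrder_of_finite s')))) (fun ij => by simp [finEquivZPowers_apply])
    (sec_ex (h := hau) ht) (e := Nat.gcd k (p - 1)) (fun b hb => ?_) u2
    (Nat.gcd_pos_of_pos_left _ k1) ?_).elim fun c ⟨c0, cu, hc⟩ =>
      umin c cu ⟨c0, fun g hg => Zr.of_sec (h := hau) (ih g hg) (hu g hg) cu (hc ⟨g, hg⟩)⟩
  · by_cases v1 : v = 1
    · exact Or.inl v1
    obtain ⟨m, hm⟩ := mem_zpowers_of_prime_card (G := Subgroup.zpowers s') (g := ⟨v, hv⟩)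
      (g' := ⟨s', Subgroup.mem_zpowers s'⟩) (by rw [Nat.card_zpowers, so])
      fun e => v1 (congrArg Subtype.val e)
    have hm' : (v : G) ^ m = s := congrArg Subtype.val (congrArg Subtype.val hm)
    refine Or.inr (h.free0 h.smem h.reg ?_)
    have := zpow_mem (show (g : G)⁻¹ * v * (g : G)⁻¹⁻¹ ∈ Bor ρ by rw [inv_inv]; exact hg) m
    rwa [conj_zpow, hm', inv_inv] at this
  · replace hb : ρ b ∈ L (ZMod p) w 0 := hb
    obtain ⟨c, c0, hc⟩ := hB b hb
    have tL : t ∈ L (ZMod p) w 0 := Fl_anti (by omega) ht.mem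
    refine ⟨c, pow_gcd_eq_one.2 ⟨?_, ZMod.pow_card_sub_one_eq_one c0⟩, ?_⟩
    · have e1 := congrFun (congrFun (eig_pow hc k) ⟨k, kw⟩) ⟨0, by omega⟩
      have e2 := congrFun (congrFun (cm b b.2) ⟨k, kw⟩) ⟨0, by omega⟩
      rw [Matrix.smul_apply, lead hb (ht.pow k).mem (m := ⟨k, kw⟩) (by simp) (by simp),
        lead (ht.pow k).mem hb (m := ⟨0, by omega⟩) (by simp) (by simp)] at e1
      rw [lead hb hk.mem (m := ⟨k, kw⟩) (by simp) (by simp),
        lead hk.mem hb (m := ⟨0, by omega⟩) (by simp) (by simp), mul_comm,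
        mul_right_inj' (hk.ne _ _ (by simp))] at e2
      rw [e2, mul_comm, smul_eq_mul] at e1
      exact (mul_eq_right₀ (mul_ne_zero ((ht.pow k).ne _ _ (by simp)) (diag_ne hb _))).1 e1.symm
    · rw [hσ, ← sec_mul (mem_L_zero.1 hb _) (mem_L_zero.1 tL _),
        ← sec_mul (mem_L_zero.1 tL _) (mem_L_zero.1 hb _), hc]
      rfl
  · obtain ⟨c, hc⟩ := Nat.gcd_dvd_left k (p - 1)
    obtain ⟨d, hd⟩ := Nat.gcd_dvd_right k (p - 1)
    generalize Nat.gcd k (p - 1) = e at *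
    by_cases c1 : 2 ≤ c
    · have := Nat.mul_le_mul_left e c1
      omega
    · obtain rfl : c = 1 := by
        rcases Nat.eq_zero_or_pos c with rfl | _ <;> omega
      by_cases d1 : 3 ≤ d
      · have := Nat.mul_le_mul_left e d1
        omega
      · have := Nat.mul_le_mul_left e (show d ≤ 2 by omega)
        omega

theorem caseA (h5 : 5 ≤ p) (hw : w < p) (se : SE p H) (hH : H ≠ ⊤) (hPH : P ≤ H)
    (hc : Nat.card P = p ^ 2) (hi : ¬ p ∣ P.index) (w2 : 2 ≤ w) :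
    ∃ a, 0 < a ∧ a < w ∧ ∀ g, Zr a a (ρ g) := by
  have := IsPGroup.isMulCommutative_of_card_eq_prime_sq hc
  have cP : ∀ u ∈ P, ∀ v ∈ P, u * v = v * u := fun u hu v hv =>
    congrArg Subtype.val (this.1.1 ⟨u, hu⟩ ⟨v, hv⟩)
  let i0 : Fin w := ⟨0, by omega⟩
  let i1 : Fin w := ⟨1, by omega⟩
  have n1 := h.reg.ne i1 i0 rfl
  have s1 : s ≠ 1 := fun e => n1 (by simp [e])
  have so : orderOf s = p := orderOf_eq_prime (h.pow_p hw.le h.smem) s1
  obtain ⟨y, hy, hy'⟩ : ∃ y ∈ P, y ∉ Subgroup.zpowers s := by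
    by_contra hn
    push Not at hn
    have := Subgroup.card_le_of_le (show P ≤ _ from hn)
    rw [hc, Nat.card_zpowers, so] at this
    nlinarith
  set m := (-(ρ y - 1) i1 i0 / (ρ s - 1) i1 i0).val with hm
  have y1 : y * s ^ m ∈ P := mul_mem hy (pow_mem h.smem m)
  have y2 : (ρ (y * s ^ m) - 1) i1 i0 = 0 := by
    rw [h.ent_mul hy (pow_mem h.smem m) rfl, h.ent_pow h.smem rfl, hm, ZMod.natCast_zmod_val]
    field_simp; ring
  have y3 : y * s ^ m ≠ 1 := fun e => hy' (by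
    rw [eq_inv_of_mul_eq_one_left e]; exact inv_mem (pow_mem (Subgroup.mem_zpowers s) m))
  generalize y * s ^ m = x at y1 y2 y3
  have xo : orderOf x = p := orderOf_eq_prime (h.pow_p hw.le y1) y3
  let f : Fin p × Fin p → P := fun ij => ⟨s ^ (ij.1 : ℕ) * x ^ (ij.2 : ℕ),
    mul_mem (pow_mem h.smem _) (pow_mem y1 _)⟩
  have hf : Function.Bijective f := by
    refine (Nat.bijective_iff_injective_and_card f).2 ⟨?_, by simp [hc, sq]⟩
    rintro ⟨i, j⟩ ⟨i', j'⟩ e
    have e1 : s ^ (i : ℕ) * x ^ (j : ℕ) = s ^ (i' : ℕ) * x ^ (j' : ℕ) := congrArg Subtype.val e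
    have e2 := congrArg (fun g => (ρ g - 1) i1 i0) e1
    simp only [h.ent_mul (pow_mem h.smem _) (pow_mem y1 _) (show (i1 : ℕ) = i0 + 1 from rfl),
      h.ent_pow h.smem (show (i1 : ℕ) = i0 + 1 from rfl),
      h.ent_pow y1 (show (i1 : ℕ) = i0 + 1 from rfl), y2, mul_zero, add_zero,
      mul_left_inj' n1, ZMod.natCast_eq_natCast_iff', Nat.mod_eq_of_lt i.2,
      Nat.mod_eq_of_lt i'.2] at e2
    obtain rfl : i = i' := Fin.ext e2
    rw [mul_right_inj, pow_eq_pow_iff_modEq, xo, Nat.ModEq, Nat.mod_eq_of_lt j.2,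
      Nat.mod_eq_of_lt j'.2] at e1
    rw [Fin.ext e1]
  obtain ⟨t, ht, hB⟩ := h.exists_t w2 cP hi
  refine ten' p ρ (Bor ρ) P h.le_Bor (fun u hu g hg => ?_) (Or.inr rfl) h.reg
    (inv_tri (h.le_Bor h.smem))
    (comm_succ (k := 1) h.reg ((h.mem x).1 y1) (comm_rho (cP x y1 s h.smem)) fun _ => y2)
    (inv_tri (h.le_Bor y1)) (Equiv.ofBijective f hf) (fun _ => rfl) ht (e := p - 1)
    (fun b hb => ?_) w2 (by omega) (by omega)
  · by_cases u1 : u = 1
    · exact Or.inl u1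
    have e1 := h.mem_of_pel hg (by simpa using h.pel_conj hu g⁻¹)
    refine Or.inr ((Bor ρ).inv_mem_iff.1 (h.free0 h.smem h.reg
      (h.cent_le h5 hw se hH hPH cP hi hu u1 (Subgroup.mem_centralizer_singleton_iff.2 ?_))))
    calc g⁻¹⁻¹ * s * g⁻¹ * u = g * (s * (g⁻¹ * u * g)) * g⁻¹ := by group
      _ = _ := by rw [cP s h.smem _ e1]; group
  · obtain ⟨c, c0, hc⟩ := hB b hb
    exact ⟨c, ZMod.pow_card_sub_one_eq_one c0, hc⟩

end St

end Cfsg.Agent.MCE
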