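import Cfsg.Agent.MCE.Dg

/-! Project MCE: coordinates and matrices on an elementary abelian section with a full flag. -/

set_option autoImplicit false

namespace Cfsg.Agent.MCE

open Matrix
open scoped commutatorElement

variable {p : ℕ} [hp : Fact p.Prime] {A : Type*} [Group A]

theorem exists_chi0 {Q : Type*} [CommGroup Q] (h : ∀ a : Q, a ^ p = 1) {q : Q} (hq : q ≠ 1) :
    ∃ φ : Q → ZMod p, (∀ a b, φ (a * b) = φ a + φ b) ∧ φ q ≠ 0 := by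
  let _ : Module (ZMod p) (Additive Q) := AddCommGroup.zmodModule fun a => h a.toMul
  have key : ∀ (V : Type _) [AddCommGroup V] [Module (ZMod p) V] (v : V), v ≠ 0 →
      ∃ φ : V →+ ZMod p, φ v ≠ 0 := fun V _ _ v hv =>
    (Module.Projective.exists_dual_ne_zero (ZMod p) hv).elim fun f hf => ⟨f.toAddMonoidHom, hf⟩
  obtain ⟨φ, hφ⟩ := key (Additive Q) (Additive.ofMul q) hq
  exact ⟨fun a => φ (Additive.ofMul a), fun a b => map_add φ _ _, hφ⟩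

theorem exists_chi (X Y : Subgroup A) (hc : ∀ y ∈ X, ∀ z ∈ X, ⁅y, z⁆ ∈ Y) (h1 : ∀ y ∈ X, y ^ p ∈ Y)
    {y₀ : A} (h0 : y₀ ∈ X) (h0' : y₀ ∉ Y) : ∃ χ : A → ZMod p,
      (∀ y ∈ X, ∀ z ∈ X, χ (y * z) = χ y + χ z) ∧ (∀ y ∈ X, y ∈ Y → χ y = 0) ∧ χ y₀ ≠ 0 := by
  classical
  have hN : (Y.subgroupOf X).Normal := ⟨fun n hn g => by
    have := mul_mem (hc g g.2 n n.2) hn
    simpa [commutatorElement_def, Subgroup.mem_subgroupOf] using this⟩
  let _ : CommGroup (X ⧸ Y.subgroupOf X) :=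
    { (inferInstance : Group (X ⧸ Y.subgroupOf X)) with
      mul_comm := fun a b => by
        obtain ⟨a, rfl⟩ := QuotientGroup.mk_surjective a
        obtain ⟨b, rfl⟩ := QuotientGroup.mk_surjective b
        rw [← QuotientGroup.mk_mul, ← QuotientGroup.mk_mul, QuotientGroup.eq]
        have := hc _ (inv_mem b.2) _ (inv_mem a.2)
        simpa [commutatorElement_def, Subgroup.mem_subgroupOf, mul_assoc] using this }
  obtain ⟨φ, h2, hφ⟩ := exists_chi0 (p := p) (q := ((⟨y₀, h0⟩ : X) : X ⧸ Y.subgroupOf X))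
    (fun a => by
      obtain ⟨a, rfl⟩ := QuotientGroup.mk_surjective a
      exact (QuotientGroup.eq_one_iff (a ^ p)).2 (h1 a a.2))
    fun e => h0' ((QuotientGroup.eq_one_iff (⟨y₀, h0⟩ : X)).1 e)
  refine ⟨fun y => if h : y ∈ X then φ ((⟨y, h⟩ : X) : X ⧸ Y.subgroupOf X) else 0,
    fun y hy z hz => ?_, fun y hy hy' => ?_, by simpa [h0] using hφ⟩
  · simp only [hy, hz, mul_mem hy hz, dif_pos]
    rw [← h2]; rfl
  · simp only [hy, dif_pos]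
    rw [(QuotientGroup.eq_one_iff (⟨y, hy⟩ : X)).2 hy']
    simpa using h2 1 1

variable {w : ℕ} {X : ℕ → Subgroup A} {κ : A → Fin w → ZMod p}

/-- Coordinates adapted to a flag. -/
structure Crd (X : ℕ → Subgroup A) (κ : A → Fin w → ZMod p) : Prop where
  add : ∀ y ∈ X 0, ∀ z ∈ X 0, κ (y * z) = κ y + κ z
  mem : ∀ c ≤ w, ∀ y ∈ X 0, y ∈ X c ↔ ∀ i : Fin w, (i : ℕ) < c → κ y i = 0
  surj : ∀ v, ∃ y ∈ X 0, κ y = v

theorem add_pow' {M : Type*} [AddCommGroup M] {Y : Subgroup A} {χ : A → M}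
    (h : ∀ y ∈ Y, ∀ z ∈ Y, χ (y * z) = χ y + χ z) {y : A} (hy : y ∈ Y) (k : ℕ) :
    χ (y ^ k) = k • χ y := by
  induction k with
  | zero => simpa using h 1 (one_mem _) 1 (one_mem _)
  | succ k ih => rw [pow_succ, h _ (pow_mem hy k) _ hy, ih, succ_nsmul]

theorem add_inv' {M : Type*} [AddCommGroup M] {Y : Subgroup A} {χ : A → M}
    (h : ∀ y ∈ Y, ∀ z ∈ Y, χ (y * z) = χ y + χ z) {y z : A} (hy : y ∈ Y) (hz : z ∈ Y) :
    χ (y⁻¹ * z) = χ z - χ y := by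
  rw [eq_sub_iff_add_eq', ← h _ hy _ (mul_mem (inv_mem hy) hz), mul_inv_cancel_left]

theorem exists_crd (anti : Antitone X) (hc : ∀ y ∈ X 0, ∀ z ∈ X 0, ⁅y, z⁆ ∈ X w)
    (h1 : ∀ y ∈ X 0, y ^ p ∈ X w) (hs : ∀ i < w, ∃ y ∈ X i, y ∉ X (i + 1) ∧
      ∀ z ∈ X i, ∃ k : ℕ, (y ^ k)⁻¹ * z ∈ X (i + 1)) : ∃ κ : A → Fin w → ZMod p, Crd X κ := by
  choose y hy hy' hk using fun i : Fin w => hs i i.2
  have y0 : ∀ i, y i ∈ X 0 := fun i => anti (Nat.zero_le _) (hy i)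
  choose χ c1 c2 c3 using fun i : Fin w => exists_chi (X 0) (X (i + 1))
    (fun a ha b hb => anti i.2 (hc a ha b hb)) (fun a ha => anti i.2 (h1 a ha)) (y0 i) (hy' i)
  have ad : ∀ a ∈ X 0, ∀ b ∈ X 0, (fun i => χ i (a * b)) = (fun i => χ i a) + fun i => χ i b :=
    fun a ha b hb => funext fun i => c1 i a ha b hb
  refine ⟨fun a i => χ i a, ad, fun c hcw a ha => ⟨fun h i hi => c2 i a ha (anti hi h), ?_⟩, ?_⟩
  · induction c with
    | zero => exact fun _ => ha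
    | succ c ih =>
      intro h
      obtain ⟨k, hk⟩ := hk ⟨c, hcw⟩ a (ih (by omega) fun i hi => h i (by omega))
      have e := c2 ⟨c, hcw⟩ _ (mul_mem (inv_mem (pow_mem (y0 _) k)) ha) hk
      rw [add_inv' (c1 _) (pow_mem (y0 _) k) ha, h _ (by simp), add_pow' (c1 _) (y0 _), zero_sub,
        neg_eq_zero, nsmul_eq_mul] at e
      obtain ⟨m, rfl⟩ := (ZMod.natCast_eq_zero_iff k p).1 ((mul_eq_zero.1 e).resolve_right (c3 _))
      rw [pow_mul] at hk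
      have := mul_mem (pow_mem (anti hcw (h1 _ (y0 ⟨c, hcw⟩))) m) hk
      rwa [mul_inv_cancel_left] at this
  · have key : ∀ d c, w - c = d → ∀ v : Fin w → ZMod p, (∀ i : Fin w, (i : ℕ) < c → v i = 0) →
        ∃ a ∈ X 0, (fun i => χ i a) = v := fun d => by
      induction d with
      | zero =>
        intro c hc v hv
        exact ⟨1, one_mem _, funext fun i =>
          (c2 i 1 (one_mem _) (one_mem _)).trans (hv i (by omega)).symm⟩
      | succ d ih =>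
        intro c hc v hv
        have hcw : c < w := by omega
        obtain ⟨a, ha, e⟩ := ih (c + 1) (by omega)
          (v - fun i => χ i (y ⟨c, hcw⟩ ^ (v ⟨c, hcw⟩ / χ ⟨c, hcw⟩ (y ⟨c, hcw⟩)).val)) fun i hi => by
            rcases (show (i : ℕ) < c ∨ i = ⟨c, hcw⟩ from by
              rcases Nat.lt_succ_iff_lt_or_eq.1 hi with e | e
              exacts [Or.inl e, Or.inr (Fin.ext e)]) with e | rfl
            · rw [Pi.sub_apply, hv i e, c2 i _ (pow_mem (y0 _) _) (anti e (pow_mem (hy ⟨c, hcw⟩) _)), sub_self]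
            · rw [Pi.sub_apply, add_pow' (c1 _) (y0 _), nsmul_eq_mul, ZMod.natCast_zmod_val,
                div_mul_cancel₀ _ (c3 _), sub_self]
        exact ⟨_, mul_mem ha (pow_mem (y0 ⟨c, hcw⟩) _), by
          rw [ad _ ha _ (pow_mem (y0 _) _), e, sub_add_cancel]⟩
    exact fun v => key _ 0 rfl v fun i hi => by omega

theorem Crd.eq_iff (h : Crd X κ) {y z : A} (hy : y ∈ X 0) (hz : z ∈ X 0) :
    κ z = κ y ↔ y⁻¹ * z ∈ X w := by
  rw [h.mem w le_rfl _ (mul_mem (inv_mem hy) hz), add_inv' h.add hy hz, funext_iff]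
  simp [sub_eq_zero]

theorem Crd.exists_rho (h : Crd X κ) {Γ : Type*} [Group Γ] (act : Γ →* MulAut A)
    (h0 : ∀ γ, ∀ y ∈ X 0, act γ y ∈ X 0) (hw : ∀ γ, ∀ y ∈ X w, act γ y ∈ X w) :
    ∃ ρ : Γ →* Matrix (Fin w) (Fin w) (ZMod p), ∀ γ, ∀ y ∈ X 0, ρ γ *ᵥ κ y = κ (act γ y) := by
  choose σ s0 s1 using h.surj
  have k1 : ∀ γ, ∀ y ∈ X 0, κ (act γ (σ (κ y))) = κ (act γ y) := fun γ y hy => by
    rw [h.eq_iff (h0 γ _ hy) (h0 γ _ (s0 _)), ← map_inv, ← map_mul]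
    exact hw γ _ ((h.eq_iff hy (s0 _)).1 (s1 _))
  have k2 : ∀ γ, ∃ M : Matrix (Fin w) (Fin w) (ZMod p), ∀ y ∈ X 0, M *ᵥ κ y = κ (act γ y) := fun γ =>
    ⟨LinearMap.toMatrix' ((AddMonoidHom.mk' (fun v => κ (act γ (σ v))) fun u v => by
      rw [← h.add _ (h0 γ _ (s0 u)) _ (h0 γ _ (s0 v)), ← map_mul, ← k1 γ _ (mul_mem (s0 u) (s0 v)),
        h.add _ (s0 u) _ (s0 v), s1, s1]).toZModLinearMap p), fun y hy => by
      rw [LinearMap.toMatrix'_mulVec]; exact k1 γ y hy⟩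
  choose M hM using k2
  have ext : ∀ N N' : Matrix (Fin w) (Fin w) (ZMod p), (∀ y ∈ X 0, N *ᵥ κ y = N' *ᵥ κ y) → N = N' :=
    fun N N' e => Matrix.ext_iff_mulVec.2 fun v => s1 v ▸ e _ (s0 v)
  exact ⟨⟨⟨M, ext _ _ fun y hy => by simp [hM _ y hy]⟩, fun a b => ext _ _ fun y hy => by
    simp only [← mulVec_mulVec, hM _ y hy, hM _ _ (h0 b y hy), map_mul, MulAut.mul_apply]⟩, hM⟩

section props

variable (h : Crd X κ) {M : Matrix (Fin w) (Fin w) (ZMod p)} {α : A → A}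
  (h0 : ∀ y ∈ X 0, α y ∈ X 0) (hM : ∀ y ∈ X 0, M *ᵥ κ y = κ (α y))
include h h0 hM

theorem Crd.of_one (e : M = 1) {y : A} (hy : y ∈ X 0) : y⁻¹ * α y ∈ X w :=
  (h.eq_iff hy (h0 y hy)).1 (by rw [← hM y hy, e, one_mulVec])

theorem Crd.eq_one (e : ∀ y ∈ X 0, y⁻¹ * α y ∈ X w) : M = 1 := Matrix.ext_iff_mulVec.2 fun v => by
  obtain ⟨y, hy, rfl⟩ := h.surj v
  rw [hM y hy, one_mulVec, h.eq_iff hy (h0 y hy)]
  exact e y hy

theorem Crd.of_Zr {c : ℕ} (hc : c ≤ w) (e : Zr c c M) {y : A} (hy : y ∈ X 0) (hy' : y ∈ X c) :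
    α y ∈ X c := (h.mem c hc _ (h0 y hy)).2 fun i hi => by
  rw [← hM y hy, mulVec, dotProduct]
  refine Finset.sum_eq_zero fun j _ => ?_
  by_cases hj : (j : ℕ) < c
  · rw [(h.mem c hc y hy).1 hy' j hj, mul_zero]
  · rw [e i j hi (by omega), zero_mul]

theorem Crd.col (j : Fin w) : ∃ y ∈ X 0, y ∈ X j ∧ y ∉ X (j + 1) ∧
    ∀ i, (M - 1) i j = κ (y⁻¹ * α y) i := by
  obtain ⟨y, hy, e⟩ := h.surj (Pi.single j 1)
  refine ⟨y, hy, (h.mem j j.2.le y hy).2 fun i hi => ?_, fun hc => ?_, fun i => ?_⟩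
  · rw [e, Pi.single_eq_of_ne fun e => by rw [e] at hi; omega]
  · simpa [e] using (h.mem (j + 1) j.2 y hy).1 hc j (by simp)
  · rw [add_inv' h.add hy (h0 y hy), ← hM y hy, e]
    simp [one_apply, Pi.single_apply]

theorem Crd.tri (e : ∀ j < w, ∀ y ∈ X j, y⁻¹ * α y ∈ X (j + 1)) : M - 1 ∈ L (ZMod p) w 1 :=
  fun i j hij => by
    obtain ⟨y, hy, h1, -, h2⟩ := h.col h0 hM j
    by_contra hc
    simp only [dg] at hc
    exact hij ((h2 i).trans ((h.mem (j + 1) j.2 _ (mul_mem (inv_mem hy) (h0 y hy))).1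
      (e j j.2 y h1) i (by omega)))

theorem Crd.reg (e : ∀ j < w, ∀ y ∈ X j, y⁻¹ * α y ∈ X (j + 1))
    (e' : ∀ j, j + 1 < w → ∀ y ∈ X j, y⁻¹ * α y ∈ X (j + 2) → y ∈ X (j + 1)) : Ex 1 (M - 1) := by
  refine ⟨h.tri h0 hM e, fun i j hij hc => ?_⟩
  obtain ⟨y, hy, h1, h2, h3⟩ := h.col h0 hM j
  have := i.2
  refine h2 (e' j (by omega) y h1 ((h.mem _ (by omega) _ (mul_mem (inv_mem hy) (h0 y hy))).2
    fun l hl => ?_))
  by_cases c : l = i
  · rw [← h3, c, hc]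
  · have : (l : ℕ) ≠ i := fun e => c (Fin.ext e)
    rw [← h3, L_zero_of (h.tri h0 hM e) (by omega)]

end props

end Cfsg.Agent.MCE
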