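import Cfsg.Agent.MCE.Sel
import Cfsg.Agent.MCE.Rep
import Cfsg.Agent.H62.MaxClAut

/-! Project MCE: a term of the lower central series is not essential. -/

set_option autoImplicit false

namespace Cfsg.Agent.MCE

open Subgroup Cfsg.Agent.H91 Cfsg.Agent.H62
open scoped commutatorElement

variable {p n : ℕ} [hp : Fact p.Prime]

omit hp in
theorem chain_pow {A : Type*} [Group A] {e : ℕ} (he : ∀ y : A, y ^ p ^ e = 1) (α : MulAut A)
    (D : ℕ → Subgroup A) (hD : ∀ i, ∀ y ∈ D i, α y ∈ D i) (j : ℕ) : ∀ d i, j ≤ i → D (i + d) = ⊥ →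
      (∀ l, j ≤ l → l < i + d → ∀ y ∈ D l, y⁻¹ * α y ∈ D (l + 1)) →
        ∃ N, ∀ y ∈ D i, (α ^ p ^ N) y = y := fun d => by
  induction d with
  | zero => exact fun i _ h _ => ⟨0, fun y hy => by
      rw [show y = 1 from mem_bot.1 (h ▸ hy), map_one]⟩
  | succ d ih =>
    intro i hi h0 h
    obtain ⟨N, hN⟩ := ih (i + 1) (by omega) (by rwa [add_right_comm])
      fun l h1 h2 => h l h1 (by omega)
    refine ⟨N + e, fun y hy => ?_⟩
    have h1 : ∀ k, y⁻¹ * (α ^ k) y ∈ D (i + 1) := fun k => by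
      induction k with
      | zero => simp
      | succ k ih =>
        have := mul_mem (h i hi (by omega) y hy) (hD _ _ ih)
        simpa [pow_succ', mul_assoc] using this
    have h2 : ∀ k, ((α ^ p ^ N) ^ k) y = y * (y⁻¹ * (α ^ p ^ N) y) ^ k := fun k => by
      induction k with
      | zero => simp
      | succ k ih =>
        rw [pow_succ', MulAut.mul_apply, ih, map_mul, hN _ (pow_mem (h1 _) k), pow_succ',
          ← mul_assoc, mul_inv_cancel_left]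
    rw [pow_add, pow_mul, h2, he, mul_one]

variable {T : Type*} [Group T] [Finite T]

theorem normal_eq (h : MC T p n) {N : Subgroup T} [N.Normal] {a : ℕ} (ha : 1 ≤ a)
    (hN : N ≤ LL T a) : ∃ c, a ≤ c ∧ N = LL T c := by
  obtain ⟨m, hm⟩ := (h.isPGroup.to_subgroup N).exists_card_eq
  have h3 := h.three_le
  have h1 := Subgroup.card_le_of_le (hN.trans (LL_anti ha))
  rw [hm, h.card_LL le_rfl (by omega), Nat.pow_le_pow_iff_right hp.out.one_lt] at h1
  have h2 : N.index = p ^ (n - m - 2 + 2) := by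
    have e := N.index_mul_card
    rw [hm, h.card] at e
    apply Nat.eq_of_mul_eq_mul_right (pow_pos hp.out.pos m)
    rw [e, ← pow_add]; congr 1; omega
  have h4 : LL T (n - m - 2 + 1) = N := eq_of_le_of_card_ge (S0662.lcs_le h.isPGroup _ N h2) (by
    rw [hm, h.card_LL (by omega) (by omega)]; exact le_of_eq (by congr 1; omega))
  rcases le_total a (n - m - 2 + 1) with e | e
  · exact ⟨_, e, h4.symm⟩
  · exact ⟨a, le_rfl, le_antisymm hN (h4 ▸ LL_anti e)⟩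

variable {A Γ : Type*} [Group A] [Group Γ] {ι : A →* T} {act : Γ →* MulAut A} {c : T →* Γ} {j : ℕ}

theorem exists_rep (h : MC T p n) (hj : 1 ≤ j) (inj : Function.Injective ι) (hr : ι.range = LL T j)
    (hc : ∀ t y, ι (act (c t) y) = t * ι y * t⁻¹) {a b : ℕ} (ja : j ≤ a) (ab : a ≤ b)
    (bn : b ≤ n - 1) (ia : ∀ γ, ∀ y, ι y ∈ LL T a → ι (act γ y) ∈ LL T a)
    (ib : ∀ γ, ∀ y, ι y ∈ LL T b → ι (act γ y) ∈ LL T b)
    (hmin : ∀ d, a < d → (∀ γ, ∀ y, ι y ∈ LL T d → ι (act γ y) ∈ LL T d) → b ≤ d) :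
    b - a < p ∧ ∃ ρ : Γ →* Matrix (Fin (b - a)) (Fin (b - a)) (ZMod p),
      (∀ γ, ρ γ = 1 → ∀ y, ι y ∈ LL T a → ι (y⁻¹ * act γ y) ∈ LL T b) ∧
      (∀ t ∈ LL T j, ρ (c t) = 1) ∧ (∀ t, ρ (c t) - 1 ∈ L (ZMod p) (b - a) 1) ∧
      (∀ s, Unif s (n - 1) → Ex 1 (ρ (c s) - 1)) ∧
      ¬ ∃ d, 0 < d ∧ d < b - a ∧ ∀ γ, Zr d d (ρ γ) := by
  let X : ℕ → Subgroup A := fun k => (LL T (a + k)).comap ι
  have hX : ∀ k y, y ∈ X k ↔ ι y ∈ LL T (a + k) := fun _ _ => Iff.rfl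
  have hXb : ∀ y, y ∈ X (b - a) ↔ ι y ∈ LL T b := fun y => by rw [hX, Nat.add_sub_cancel' ab]
  have sur : ∀ k, ∀ t ∈ LL T (a + k), ∃ y, ι y = t := fun k t ht =>
    (hr.ge (LL_anti (by omega) ht) :)
  have key : ∀ M : Set A, (∀ γ, ∀ y ∈ M, act γ y ∈ M) → (∀ y ∈ M, y ∈ X 1) →
      ∀ y ∈ M, y ∈ X (b - a) := fun M h1 h2 y hy => by
    have h3 : ∀ γ, ∀ y ∈ closure M, act γ y ∈ closure M := fun γ y hy =>
      (closure_le ((closure M).comap (act γ).toMonoidHom)).2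
        (fun y hy => subset_closure (h1 γ y hy)) hy
    have : ((closure M).map ι).Normal := ⟨by
      rintro _ ⟨y, hy, rfl⟩ t
      exact ⟨_, h3 (c t) y hy, hc t y⟩⟩
    have h4 : closure M ≤ X 1 := (closure_le _).2 h2
    obtain ⟨d, hd, e⟩ := normal_eq h (N := (closure M).map ι) (a := a + 1) (by omega)
      (map_le_iff_le_comap.2 h4)
    rw [hXb]
    refine LL_anti (hmin d hd fun γ z hz => ?_) (e ▸ mem_map_of_mem ι (subset_closure hy))
    rw [← e] at hz ⊢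
    exact mem_map_of_mem ι (h3 γ z ((mem_map_iff_mem inj).1 hz))
  have k1 : ∀ y ∈ X 0, ∀ z, ⁅y, z⁆ ∈ X (b - a) := fun y hy z =>
    key {u | ∃ y ∈ X 0, ∃ z, u = ⁅y, z⁆} (by
      rintro γ _ ⟨y, hy, z, rfl⟩
      exact ⟨_, ia γ y hy, _, map_commutatorElement _ _ _⟩) (by
      rintro _ ⟨y, hy, z, rfl⟩
      rw [hX, map_commutatorElement]
      exact LL_comm' hy _) _ ⟨y, hy, z, rfl⟩
  have k2 : ∀ y ∈ X 0, y ^ p ∈ X (b - a) := fun y hy =>
    key {u | ∃ y ∈ X 0, u = y ^ p} (by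
      rintro γ _ ⟨y, hy, rfl⟩
      exact ⟨_, ia γ y hy, map_pow _ _ _⟩) (by
      rintro _ ⟨y, hy, rfl⟩
      rw [hX, map_pow]
      exact h.pow_mem_succ (by omega) hy) _ ⟨y, hy, rfl⟩
  obtain ⟨κ, hκ⟩ := exists_crd (p := p) (w := b - a) (X := X)
    (fun _ _ h => comap_mono (LL_anti (by omega))) (fun y hy z _ => k1 y hy z) k2 fun i hi => by
      obtain ⟨t, h1, h2⟩ := h.exists_not_mem (k := a + i) (by omega)
      obtain ⟨y, rfl⟩ := sur i t h1
      exact ⟨y, h1, h2, fun z hz => (h.exists_pow (by omega) h1 h2 hz).imp fun k hk => by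
        rw [hX, map_mul, map_inv, map_pow]; exact hk⟩
  obtain ⟨ρ, hρ⟩ := hκ.exists_rho act ia fun γ y hy => (hXb _).2 (ib γ y ((hXb _).1 hy))
  have cm : ∀ t y, ι (y⁻¹ * act (c t) y) = ⁅(ι y)⁻¹, t⁆ := fun t y => by
    rw [map_mul, map_inv, hc]; simp [commutatorElement_def, mul_assoc]
  have tr : ∀ t, ∀ k < b - a, ∀ y ∈ X k, y⁻¹ * act (c t) y ∈ X (k + 1) := fun t k _ y hy => by
    rw [hX, cm]; exact LL_comm' (inv_mem hy) t
  refine ⟨?_, ρ, fun γ e y hy => (hXb _).1 (hκ.of_one (ia γ) (hρ γ) e hy), fun t ht => ?_,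
    fun t => hκ.tri (ia _) (hρ _) (tr t), fun s hs => hκ.reg (ia _) (hρ _) (tr s) fun k hk y hy e => ?_,
    fun ⟨d, d0, dw, hd⟩ => ?_⟩
  · by_contra hw
    have := hp.out.two_le
    obtain ⟨t, h1, h2⟩ := h.exists_not_mem (k := a) (by omega)
    obtain ⟨y, rfl⟩ := sur 0 t h1
    exact h.pow_not_mem (by omega) h1 h2 (by omega)
      (LL_anti (by omega) (map_pow ι y p ▸ (hXb _).1 (k2 y h1)))
  · obtain ⟨z, rfl⟩ := hr.ge ht
    refine hκ.eq_one (ia _) (hρ _) fun y hy => ?_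
    rw [hXb, cm, ← map_inv, ← map_commutatorElement]
    exact (hXb _).1 (k1 _ (inv_mem hy) z)
  · rw [hX, cm] at e
    exact (LL T _).inv_mem_iff.1
      (h.mem_of_comm_mem (by omega) (hs (a + k) (by omega)) (inv_mem hy) e)
  · have := hmin (a + d) (by omega) fun γ y hy =>
      hκ.of_Zr (ia γ) (hρ γ) dw.le (hd γ) (LL_anti (by omega) hy) hy
    omega

theorem noLL [Finite Γ] (h : MC T p n) (h4 : 4 ≤ n) (h5 : 5 ≤ p) (hj : 1 ≤ j)
    (inj : Function.Injective ι) (hr : ι.range = LL T j) (ainj : Function.Injective act)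
    (hc : ∀ t y, ι (act (c t) y) = t * ι y * t⁻¹) (hS : SylIn p c.range ⊤) {I : Subgroup Γ}
    [I.Normal] (hI : ∀ t, c t ∈ I → t ∈ LL T j) (hI' : I = (LL T j).map c)
    {Y : Subgroup (Γ ⧸ I)} (hY : IsStronglyPEmbedded p Y) : False := by
  classical
  let θ := (QuotientGroup.mk' I).comp c
  have hθ : ∀ t, θ t = 1 ↔ t ∈ LL T j := fun t =>
    (QuotientGroup.eq_one_iff _).trans ⟨hI t, fun ht => hI' ▸ mem_map_of_mem c ht⟩
  have hP : SylIn p θ.range ⊤ := by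
    rw [← map_top_of_surjective _ (QuotientGroup.mk'_surjective I), ← MonoidHom.map_range]
    exact hS.map _
  obtain ⟨-, H, hH, hN⟩ := IsStronglyPEmbedded_exists_for hY hP
  obtain ⟨s, hs⟩ := h.exists_unif
  have s0 : s ∉ LL T 1 := h.KK_zero ▸ hs 0 (by omega)
  have tv : ∀ d, n - 1 ≤ d → ∀ y, ι y ∈ LL T d → y = 1 := fun d hd y hy => inj (by
    rwa [h.LL_eq_bot hd, mem_bot, ← map_one ι] at hy)
  have al : ∀ y, ι y ∈ LL T j := fun y => hr.le ⟨y, rfl⟩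
  have jn : j ≤ n - 2 := by
    by_contra hc'
    refine s0 (LL_anti hj (hI s ?_))
    rw [show c s = 1 from ainj (by
      ext y; rw [tv j (by omega) y (al y), map_one, map_one])]
    exact one_mem _
  let Q : ℕ → Prop := fun d => ∀ γ, ∀ y, ι y ∈ LL T d → ι (act γ y) ∈ LL T d
  have Qn : ∀ d, n - 1 ≤ d → Q d := fun d hd γ y hy => by
    rw [tv d hd y hy, map_one, map_one]; exact one_mem _
  have hex : ∀ i, ∃ d, i ≤ d ∧ Q d := fun i => ⟨i + n, by omega, Qn _ (by omega)⟩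
  let f : ℕ → ℕ := fun i => Nat.find (hex i)
  have f1 : ∀ i, i ≤ f i := fun i => (Nat.find_spec (hex i)).1
  have f2 : ∀ i, Q (f i) := fun i => (Nat.find_spec (hex i)).2
  have f3 : ∀ i d, i ≤ d → Q d → f i ≤ d := fun i d h1 h2 => Nat.find_min' (hex i) ⟨h1, h2⟩
  choose hw ρ r1 r2 r3 r4 r5 using fun i : Finset.Ico j (n - 1) =>
    exists_rep h hj inj hr hc (a := f i) (b := f (i + 1))
      ((Finset.mem_Ico.1 i.2).1.trans (f1 i)) (f3 _ _ ((Nat.le_succ _).trans (f1 _)) (f2 _))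
      (f3 _ _ (Finset.mem_Ico.1 i.2).2 (Qn _ le_rfl)) (f2 _) (f2 _)
      fun d h1 h2 => f3 _ _ (by have := f1 i; omega) h2
  let σ := fun i => QuotientGroup.lift I (ρ i) (by
    rw [hI']; rintro _ ⟨t, ht, rfl⟩; exact r2 i t ht)
  obtain ⟨x, x1, x2, x3, x4, hx⟩ : ∃ x ∈ KK T 1, x ∉ LL T j ∧ ⁅x, s⁆ ∈ LL T j ∧ x ^ p ∈ LL T j ∧
      (Nat.card θ.range = p ^ 2 ∨ (∀ u ∈ θ.range, u * θ x = θ x * u) ∧
        ∃ y ∈ θ.range, y * θ s * y⁻¹ = θ s * θ x) := by
    rcases hj.eq_or_lt with rfl | hj'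
    · obtain ⟨x, h1, h2⟩ := h.exists_KK le_rfl h4
      refine ⟨x, h1, h2, LL_comm' (i := 0) (mem_top x) s, h.pow_mem_one x, Or.inl ?_⟩
      rw [← index_ker, ← h.index_LL_one]
      exact congrArg _ (Subgroup.ext hθ)
    · obtain ⟨k, rfl⟩ : ∃ k, j = k + 2 := ⟨j - 2, by omega⟩
      obtain ⟨y, hy, hy'⟩ : ∃ y ∈ LL T k, ⁅y, s⁆ ∉ LL T (k + 2) := by
        by_contra hc; push Not at hc; exact hs k (by omega) hc
      have h1 : s⁻¹ * ⁅y, s⁆ * s ∈ LL T (k + 1) := LL_conj' (LL_comm' hy s) s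
      refine ⟨_, LL_one_le_KK 1 (LL_anti (by omega) h1),
        fun e => hy' (by simpa [mul_assoc] using LL_conj e s), LL_comm' h1 s,
        h.pow_mem_succ (by omega) h1, Or.inr ⟨?_, θ y, ⟨y, rfl⟩, ?_⟩⟩
      · rintro _ ⟨u, rfl⟩
        rw [← commutatorElement_eq_one_iff_mul_comm, ← map_commutatorElement, hθ]
        exact LL_comm'' h1 u
      · rw [← map_inv, ← map_mul, ← map_mul, ← map_mul]
        simp [commutatorElement_def, mul_assoc]
  have sp : θ s ^ p = 1 := by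
    rw [← map_pow, hθ]; exact LL_anti (by omega) (h.pow_mem_pred hs)
  obtain ⟨i, -, a, a0, aw, ha⟩ := sel h5 hP hH hN (s := θ s) (x := θ x) ⟨⟨s, rfl⟩, ⟨x, rfl⟩, by
      rw [eq_comm, ← commutatorElement_eq_one_iff_mul_comm, ← map_commutatorElement, hθ]; exact x3,
      sp, by rwa [← map_pow, hθ], fun e => s0 (LL_anti hj ((hθ s).1 e)), fun e => by
        obtain ⟨m, hm⟩ := mem_powers_iff_mem_zpowers.2 e
        have e1 : (s ^ m)⁻¹ * x ∈ LL T j := by
          rw [← hθ, map_mul, map_inv, map_pow, inv_mul_eq_one]; exact hm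
        obtain ⟨l, rfl⟩ := (Nat.modEq_zero_iff_dvd).1 (modEq_of_pow (hs 1 (by omega))
          (LL_one_le_KK 1 (h.pow_mem_one s)) (a := m) (b := 0) (by
            simpa using mul_mem (LL_one_le_KK 1 (LL_anti hj e1)) (inv_mem x1)))
        exact x2 ((hθ x).1 (by rw [← hm]; simp [pow_mul, sp]))⟩
    hx Finset.univ _ σ (fun g hg => by
      obtain ⟨g, rfl⟩ := QuotientGroup.mk_surjective g
      obtain ⟨N, hN⟩ := chain_pow (p := p) (e := n) (fun y => inj (by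
        rw [map_pow, ← h.card, pow_card_eq_one', map_one])) (act g)
        (fun i => (LL T (f i)).comap ι) (fun i => f2 i g) j (n - 1 - j) j le_rfl
        (eq_bot_iff.2 fun y hy => tv _ (by have := f1 (j + (n - 1 - j)); omega) y hy)
        fun l h1 h2 y hy => r1 ⟨l, Finset.mem_Ico.2 ⟨h1, by omega⟩⟩ g (hg _ (Finset.mem_univ _)) y hy
      refine ⟨N, ?_⟩
      rw [← QuotientGroup.mk_pow, show g ^ p ^ N = 1 from ainj (by
        ext y
        rw [map_pow, hN y (LL_anti (f3 j j le_rfl fun γ y _ => al _) (al y)), map_one]; rfl)]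
      rfl) (fun i _ => hw i) (by rintro i - _ ⟨t, rfl⟩; exact r3 i t) fun i _ => r4 i s hs
  exact r5 i ⟨a, a0, aw, fun g => ha g⟩

end Cfsg.Agent.MCE
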