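import Cfsg.Agent.MCE.Lin2
import Cfsg.Agent.H91.SPE
import Cfsg.Agent.S0058

/-! Project MCE: choice of a faithful chief factor. -/

set_option autoImplicit false

namespace Cfsg.Agent.MCE

open Subgroup Cfsg.Agent.H91

variable {p : ℕ} [hp : Fact p.Prime] {G : Type*} [Group G] [Finite G] {P H : Subgroup G} {s x : G}

omit hp [Finite G] in
theorem pg_zpowers {u : G} (h : ∃ k, u ^ p ^ k = 1) : IsPGroup p (zpowers u) := by
  obtain ⟨k, hk⟩ := h
  rintro ⟨_, m, rfl⟩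
  exact ⟨k, Subtype.ext (by
    change (u ^ m) ^ p ^ k = 1
    rw [← zpow_natCast, ← zpow_mul, mul_comm, zpow_mul, zpow_natCast, hk, one_zpow])⟩

theorem se_of (hP : SylIn p P ⊤) (hPH : P ≤ H)
    (hH : ∀ Q : Subgroup G, Q ≤ P → Q ≠ ⊥ → normalizer (Q : Set G) ≤ H) : SE p H := by
  intro u hu u1 pu g hg
  have h1 := hP.of_le hPH le_top
  obtain ⟨a, ha, ha'⟩ := h1.exists_conj_mem (pg_zpowers pu) (zpowers_le.2 hu)
  obtain ⟨b, hb, hb'⟩ := h1.exists_conj_mem (pg_zpowers (u := g * u * g⁻¹)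
    (pu.imp fun k hk => by rw [conj_pow, hk]; simp)) (zpowers_le.2 hg)
  have := mem_of_conj_mem_sylow hP hH (g := b * g * a⁻¹) (ha' u (mem_zpowers u))
    (by simpa using u1) (by convert hb' _ (mem_zpowers _) using 1; group)
  simpa [mul_assoc] using mul_mem (mul_mem (inv_mem hb) this) ha

/-- Two elements generating an elementary abelian subgroup of order `p ^ 2`. -/
structure NC (p : ℕ) (P : Subgroup G) (s x : G) : Prop where
  hs : s ∈ P
  hx : x ∈ P
  cm : s * x = x * s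
  sp : s ^ p = 1
  xp : x ^ p = 1
  s1 : s ≠ 1
  nm : x ∉ zpowers s

theorem le_of_inf (hP : SylIn p P ⊤) (se : SE p H) (hPH : P ≤ H) (nc : NC p P s x)
    {J : Subgroup G} [hJ : J.Normal] (h : J ⊓ P = ⊥) : J ≤ H := by
  have hA : zpowers s ⊔ zpowers x ≤ P := sup_le (zpowers_le.2 nc.hs) (zpowers_le.2 nc.hx)
  have e : zpowers s ⊔ zpowers x = closure {s, x} := by
    rw [zpowers_eq_closure, zpowers_eq_closure, ← Subgroup.closure_union]; rfl
  have cm : IsMulCommutative ↥(zpowers s ⊔ zpowers x) := by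
    rw [e]
    refine isMulCommutative_closure ?_
    rintro a (rfl | rfl) b (rfl | rfl) <;> first | rfl | exact nc.cm | exact nc.cm.symm
  have hp' : ∀ a ∈ zpowers s ⊔ zpowers x, a ^ p = 1 := fun a ha => by
    rw [e] at ha
    induction ha using closure_induction with
    | mem a ha => rcases ha with rfl | rfl; exacts [nc.sp, nc.xp]
    | one => simp
    | mul a b ha hb ha' hb' =>
      rw [Commute.mul_pow (congrArg Subtype.val (cm.1.1 ⟨a, e ▸ ha⟩ ⟨b, e ▸ hb⟩)), ha', hb', one_mul]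
    | inv a _ ha => rw [inv_pow, ha, inv_one]
  have h1 := hP.inf_normal (N := J) fun a _ n hn => hJ.conj_mem n hn a
  obtain ⟨k, hk⟩ := (hP.isPGroup.to_le hA).exists_card_eq
  refine (S0058.result (zpowers s ⊔ zpowers x) J (fun hc => nc.nm ?_)
    (by rw [normalizer_eq_top]; exact le_top) ?_).ge.trans
      (iSup₂_le fun a ha g hg => se.comm (hPH (hA ha.1)) ha.2 ⟨1, by rw [pow_one, hp' a ha.1]⟩
        (mem_centralizer_singleton_iff.1 hg.2))
  · obtain ⟨g, hg⟩ := hc.exists_generator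
    have h2 : Nat.card ↥(zpowers s ⊔ zpowers x) ≤ Nat.card (zpowers s) := by
      rw [← orderOf_eq_card_of_forall_mem_zpowers hg, Nat.card_zpowers, orderOf_eq_prime nc.sp nc.s1]
      exact Nat.le_of_dvd hp.out.pos (orderOf_dvd_of_pow_eq_one (Subtype.ext (hp' g g.2)))
    exact (eq_of_le_of_card_ge le_sup_left h2).ge (mem_sup_right (mem_zpowers x))
  · rw [hk]
    refine Nat.Coprime.pow_left _ ((Nat.Prime.coprime_iff_not_dvd hp.out).2 ?_)
    have := h1.not_dvd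
    rwa [inf_comm, h, relIndex_bot_left, top_inf_eq] at this

theorem inf_or (hP : SylIn p P ⊤) (se : SE p H) (hH : H ≠ ⊤) (hPH : P ≤ H) (nc : NC p P s x)
    {K K' : Subgroup G} [hK : K.Normal] [hK' : K'.Normal] (h : K ⊓ K' ⊓ P = ⊥) :
    K ⊓ P = ⊥ ∨ K' ⊓ P = ⊥ := by
  by_contra hc
  push Not at hc
  obtain ⟨⟨u, hu⟩, u1⟩ := ne_bot_iff_exists_ne_one.1 hc.1
  obtain ⟨⟨v, hv⟩, v1⟩ := ne_bot_iff_exists_ne_one.1 hc.2
  have pe : ∀ u ∈ P, ∃ k, u ^ p ^ k = 1 := fun u hu =>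
    (hP.isPGroup ⟨u, hu⟩).imp fun _ => congrArg Subtype.val
  have h1 := le_of_inf hP se hPH nc h
  have h2 : K ≤ H := fun g hg => se v (hPH hv.2) (fun e => v1 (Subtype.ext e)) (pe v hv.2) g (by
    have : g * v * g⁻¹ * v⁻¹ ∈ K ⊓ K' := ⟨by
      simpa [mul_assoc] using mul_mem hg (hK.conj_mem _ (inv_mem hg) v),
      K'.mul_mem (hK'.conj_mem _ hv.1 g) (K'.inv_mem hv.1)⟩
    simpa using mul_mem (h1 this) (hPH hv.2))
  exact hH (eq_top_iff.2 fun g _ => se u (hPH hu.2) (fun e => u1 (Subtype.ext e)) (pe u hu.2) g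
    (h2 (hK.conj_mem _ hu.1 g)))

theorem exists_inf (hP : SylIn p P ⊤) (se : SE p H) (hH : H ≠ ⊤) (hPH : P ≤ H) (nc : NC p P s x)
    {ι : Type*} (K : ι → Subgroup G) (hK : ∀ i, (K i).Normal) (I : Finset ι) :
    (⨅ i ∈ I, K i) ⊓ P = ⊥ → ∃ i ∈ I, K i ⊓ P = ⊥ := by
  classical
  induction I using Finset.induction_on with
  | empty => exact fun h => (nc.s1 (by simpa using h.le ⟨by simp, nc.hs⟩)).elim
  | insert i I _ ih =>
    intro h
    rw [Finset.iInf_insert] at h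
    have : (⨅ i ∈ I, K i).Normal := normal_iInf_normal fun i => normal_iInf_normal fun _ => hK i
    rcases inf_or hP se hH hPH nc h with h | h
    · exact ⟨i, by simp, h⟩
    · obtain ⟨j, hj, h⟩ := ih h
      exact ⟨j, by simp [hj], h⟩

theorem SE.map (se : SE p H) {K : Subgroup G} [K.Normal] (hK : K ≤ H) :
    SE p (H.map (QuotientGroup.mk' K)) := by
  rintro _ ⟨u, hu, rfl⟩ u1 ⟨k, hk⟩ g hg
  obtain ⟨g, rfl⟩ := QuotientGroup.mk'_surjective K g
  obtain ⟨a, m, hm, e⟩ := Nat.exists_eq_pow_mul_and_not_dvd (orderOf_pos u).ne' p hp.out.ne_one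
  have h1 : g * u * g⁻¹ ∈ (H.map (QuotientGroup.mk' K)).comap (QuotientGroup.mk' K) := hg
  rw [comap_map_eq, QuotientGroup.ker_mk', sup_eq_left.2 hK] at h1
  refine mem_map_of_mem _ (se (u ^ m) (pow_mem hu m) (fun e' => u1 ?_)
    ⟨a, by rw [← pow_mul, mul_comm, ← e, pow_orderOf_eq_one]⟩ g (by rw [← conj_pow]; exact pow_mem h1 m))
  have := pow_gcd_eq_one.2 ⟨hk, show QuotientGroup.mk' K u ^ m = 1 by rw [← map_pow, e', map_one]⟩
  rwa [Nat.Coprime.pow_left k ((Nat.Prime.coprime_iff_not_dvd hp.out).2 hm), pow_one] at this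

theorem st_of {w : ℕ} {ρ : G →* Matrix (Fin w) (Fin w) (ZMod p)} (inj : Function.Injective ρ)
    (hP : SylIn p P ⊤) (tr : ∀ u ∈ P, ρ u - 1 ∈ L (ZMod p) w 1) (reg : Ex 1 (ρ s - 1)) :
    St ρ P s := by
  let U : Subgroup G :=
    { carrier := {g | ρ g - 1 ∈ L (ZMod p) w 1}
      one_mem' := by simp
      mul_mem' := fun {a b} ha hb => by
        have : ρ (a * b) - 1 = (ρ a - 1) + (ρ b - 1) + (ρ a - 1) * (ρ b - 1) := by
          rw [map_mul]; noncomm_ring
        change _ ∈ L _ _ _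
        rw [this]
        exact add_mem (add_mem ha hb) (Fl_anti (by omega) (Fl_mul ha hb))
      inv_mem' := fun {a} ha => by
        have : ρ a⁻¹ - 1 = -((ρ a - 1) * ρ a⁻¹) := by
          rw [sub_mul, ← map_mul, mul_inv_cancel, map_one, one_mul, neg_sub]
        change _ ∈ L _ _ _
        rw [this]
        exact neg_mem (Fl_mul ha (inv_tri (Fl_of_sub_one (by omega) ha))) }
  have := hP.eq_of_le (H := U) (fun g => (pelt inj (N := w)
    (L_eq_zero (Fl_pow g.2 w) (by omega))).imp fun _ => Subtype.ext) tr le_top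
  exact ⟨inj, fun g => by rw [← this]; rfl, reg⟩

theorem sel (h5 : 5 ≤ p) (hP : SylIn p P ⊤) (hH : H ≠ ⊤)
    (hN : ∀ Q : Subgroup G, Q ≤ P → Q ≠ ⊥ → normalizer (Q : Set G) ≤ H) (nc : NC p P s x)
    (hc : Nat.card P = p ^ 2 ∨ (∀ u ∈ P, u * x = x * u) ∧ ∃ y ∈ P, y * s * y⁻¹ = s * x)
    {ι : Type*} (I : Finset ι) (w : ι → ℕ)
    (ρ : ∀ i, G →* Matrix (Fin (w i)) (Fin (w i)) (ZMod p))
    (hk : ∀ g, (∀ i ∈ I, ρ i g = 1) → ∃ k, g ^ p ^ k = 1) (hw : ∀ i ∈ I, w i < p)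
    (tr : ∀ i ∈ I, ∀ u ∈ P, ρ i u - 1 ∈ L (ZMod p) (w i) 1) (reg : ∀ i ∈ I, Ex 1 (ρ i s - 1)) :
    ∃ i ∈ I, ∃ a, 0 < a ∧ a < w i ∧ ∀ g, Zr a a (ρ i g) := by
  have hPH : P ≤ H := le_normalizer.trans (hN P le_rfl fun e => nc.s1 (by simpa [e] using nc.hs))
  have se := se_of hP hPH hN
  obtain ⟨i, hi, h⟩ := exists_inf hP se hH hPH nc (fun i => (ρ i).ker) (fun _ => inferInstance) I (by
    by_contra h
    have : (⨅ i ∈ I, (ρ i).ker).Normal :=
      normal_iInf_normal fun i => normal_iInf_normal fun _ => inferInstance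
    have h1 := hP.le_of_normal (N := ⨅ i ∈ I, (ρ i).ker) (fun g => (hk g fun i hi =>
      mem_iInf.1 (mem_iInf.1 g.2 i) hi).imp fun _ => Subtype.ext) le_top
        fun a _ n hn => this.conj_mem n hn a
    rw [inf_eq_left.2 h1] at h
    have := hN _ h1 h
    rw [normalizer_eq_top] at this
    exact hH (top_le_iff.1 this))
  have hKH := le_of_inf hP se hPH nc h
  let π := QuotientGroup.mk' (ρ i).ker
  let σ := QuotientGroup.lift (ρ i).ker (ρ i) le_rfl
  have hP' : SylIn p (P.map π) ⊤ := by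
    rw [← map_top_of_surjective π (QuotientGroup.mk'_surjective _)]
    exact hP.map π
  have st : St σ (P.map π) (π s) := st_of ((injective_iff_map_eq_one σ).2 fun g hg => by
    obtain ⟨g, rfl⟩ := QuotientGroup.mk_surjective g
    exact (QuotientGroup.eq_one_iff g).2 hg) hP' (by rintro _ ⟨u, hu, rfl⟩; exact tr i hi u hu)
      (reg i hi)
  have hH' : H.map π ≠ ⊤ := fun e => hH (by
    have := comap_map_eq π H
    rwa [e, comap_top, QuotientGroup.ker_mk', sup_eq_left.2 hKH, eq_comm] at this)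
  have ne : ∀ u ∈ P, u ≠ 1 → π u ≠ 1 := fun u hu u1 e =>
    u1 (mem_bot.1 (h.le ⟨(QuotientGroup.eq_one_iff u).1 e, hu⟩))
  rcases hc with hc | ⟨cx, y, hy, e⟩
  · obtain ⟨l, l1, l2, -⟩ := st.exists_ex st.smem (ne s nc.hs nc.s1) rfl
    obtain ⟨a, a0, aw, ha⟩ := st.caseA h5 (hw i hi) (se.map hKH) hH' (map_mono hPH) (by
      rw [← hc]
      refine (Nat.card_eq_of_bijective (π.subgroupMap P) ⟨(injective_iff_map_eq_one _).2
        fun u hu => Subtype.ext ?_, π.subgroupMap_surjective P⟩).symm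
      by_contra u1
      exact ne u u.2 u1 (congrArg Subtype.val hu)) (by simpa using hP'.not_dvd) (by omega)
    exact ⟨i, hi, a, a0, aw, fun g => ha (π g)⟩
  · exact (st.caseB h5 (hw i hi) (se.map hKH) hH' (map_mono hPH) (mem_map_of_mem π nc.hx)
      (ne x nc.hx fun e => nc.nm (e ▸ one_mem _))
      (by rintro _ ⟨u, hu, rfl⟩; rw [← map_mul, cx u hu, map_mul]) (mem_map_of_mem π hy)
      (by rw [← map_inv, ← map_mul, ← map_mul, e, map_mul])).elim

end Cfsg.Agent.MCE
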