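import Cfsg.Agent.MCE.Dg

/-! Project MCE: transfer of invariant tensors. -/

set_option autoImplicit false

namespace Cfsg.Agent.MCE

open Matrix

section sums

variable {G M : Type*} [Group G] [AddCommMonoid M]

theorem sum_out (B : Subgroup G) [Fintype (G ⧸ B)] (φ : G → M)
    (hφ : ∀ g, ∀ b ∈ B, φ (g * b) = φ g) (g₀ : G) :
    ∑ q : G ⧸ B, φ (g₀ * q.out) = ∑ q : G ⧸ B, φ q.out := by
  refine Fintype.sum_equiv (MulAction.toPerm g₀) _ _ fun q => ?_
  have : (g₀ * q.out)⁻¹ * (g₀ • q).out ∈ B := by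
    rw [← QuotientGroup.eq, QuotientGroup.out_eq', ← smul_eq_mul, MulAction.Quotient.mk_smul_out]
  rw [← hφ _ _ this, mul_inv_cancel_left]
  rfl

theorem sum_free {A Ω : Type*} [Group A] [Fintype A] [MulAction A Ω] [DecidableEq Ω] (φ : Ω → M)
    (M₀ : AddSubmonoid M) (h : ∀ ω, ∑ u : A, φ (u • ω) ∈ M₀) (T : Finset Ω) :
    (∀ ω ∈ T, ∀ u : A, u • ω ∈ T) → (∀ ω ∈ T, ∀ u : A, u • ω = ω → u = 1) →
      ∑ ω ∈ T, φ ω ∈ M₀ := by
  induction T using Finset.strongInduction with
  | _ T ih =>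
  intro h1 h2
  rcases T.eq_empty_or_nonempty with rfl | ⟨ω, hω⟩
  · simp
  have hO : Finset.univ.image (fun u : A => u • ω) ⊆ T := fun x hx => by
    obtain ⟨u, -, rfl⟩ := Finset.mem_image.1 hx
    exact h1 ω hω u
  rw [← Finset.sum_sdiff hO]
  refine add_mem (ih _ (Finset.sdiff_ssubset hO ⟨ω, Finset.mem_image.2 ⟨1, by simp⟩⟩)
    (fun x hx u => ?_) fun x hx => h2 x (Finset.mem_sdiff.1 hx).1) ?_
  · rw [Finset.mem_sdiff] at hx ⊢
    refine ⟨h1 x hx.1 u, fun e => hx.2 ?_⟩
    obtain ⟨v, -, hv⟩ := Finset.mem_image.1 e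
    exact Finset.mem_image.2 ⟨u⁻¹ * v, by simp, by rw [mul_smul, hv, inv_smul_smul]⟩
  · rw [Finset.sum_image fun u _ v _ e => ?_]
    · exact h ω
    · have := h2 ω hω (v⁻¹ * u) (by rw [mul_smul, show u • ω = v • ω from e, inv_smul_smul])
      exact (inv_mul_eq_one.1 this).symm

end sums

theorem exists_parts (c : ℕ) : ∀ (m e : ℕ), e ≤ m * c → ∃ j : Fin m → ℕ, (∀ ν, j ν ≤ c) ∧
    ∑ ν, j ν = e := by
  intro m
  induction m with
  | zero => intro e he; exact ⟨fun _ => 0, fun ν => ν.elim0, by simp; omega⟩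
  | succ m ih =>
    intro e he
    obtain ⟨j, h1, h2⟩ := ih (e - c) (by rw [Nat.succ_mul] at he; omega)
    refine ⟨Fin.cons (min e c) j, fun ν => ?_, ?_⟩
    · refine Fin.cases ?_ (fun ν => ?_) ν
      · simp
      · simpa using h1 ν
    · rw [Fin.sum_univ_succ]
      simp only [Fin.cons_zero, Fin.cons_succ, h2]
      omega

variable {F : Type*} [Field F] {w m : ℕ}

/-- Tensor product of a family of matrices. -/
def kp (A : Fin m → Matrix (Fin w) (Fin w) F) : Matrix (Fin m → Fin w) (Fin m → Fin w) F :=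
  Matrix.of fun I J => ∏ ν, A ν (I ν) (J ν)

theorem kp_apply (A : Fin m → Matrix (Fin w) (Fin w) F) (I J : Fin m → Fin w) :
    kp A I J = ∏ ν, A ν (I ν) (J ν) := rfl

theorem kp_mul (A B : Fin m → Matrix (Fin w) (Fin w) F) :
    kp A * kp B = kp fun ν => A ν * B ν := by
  ext I J
  simp only [mul_apply, kp_apply]
  rw [Finset.prod_univ_sum, Fintype.piFinset_univ]
  exact Finset.sum_congr rfl fun K _ => Finset.prod_mul_distrib.symm

theorem kp_one : kp (fun _ : Fin m => (1 : Matrix (Fin w) (Fin w) F)) = 1 := by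
  ext I J
  simp only [kp_apply, one_apply]
  rw [Finset.prod_boole]
  simp [funext_iff]

theorem kp_smul (c : Fin m → F) (A : Fin m → Matrix (Fin w) (Fin w) F) :
    kp (fun ν => c ν • A ν) = (∏ ν, c ν) • kp A := by
  ext I J
  simp [kp_apply, Finset.prod_mul_distrib]

/-- The total degree. -/
def dI (w m : ℕ) : (Fin m → Fin w) → ℤ := fun I => ∑ ν, ((I ν : ℕ) : ℤ)

theorem kp_mem {A : Fin m → Matrix (Fin w) (Fin w) F} {d : Fin m → ℤ}
    (h : ∀ ν, A ν ∈ L F w (d ν)) : kp A ∈ Fl F (dI w m) (∑ ν, d ν) := fun I J e => by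
  rw [kp_apply, Finset.prod_ne_zero_iff] at e
  rw [dI, dI, ← Finset.sum_add_distrib]
  exact Finset.sum_le_sum fun ν hν => h ν _ _ (e ν hν)

theorem kp_sub_one {S : Matrix (Fin w) (Fin w) F} {c : ℤ} (hc : 1 ≤ c) (h : S - 1 ∈ L F w c) :
    kp (fun _ : Fin m => S) - 1 ∈ Fl F (dI w m) c := fun I J e => by
  have h0 : S ∈ L F w 0 := Fl_of_sub_one (by omega) h
  by_cases hIJ : I = J
  · subst hIJ
    refine (e ?_).elim
    rw [Matrix.sub_apply, one_apply_eq, kp_apply, Finset.prod_eq_one fun ν _ => ?_, sub_self]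
    have := L_zero_of h (i := I ν) (j := I ν) (by omega)
    rwa [Matrix.sub_apply, one_apply_eq, sub_eq_zero] at this
  · rw [Matrix.sub_apply, one_apply_ne hIJ, sub_zero, kp_apply, Finset.prod_ne_zero_iff] at e
    obtain ⟨ν₀, h₀⟩ := Function.ne_iff.1 hIJ
    have : c = ∑ ν, if ν = ν₀ then c else 0 := by simp
    rw [dI, dI, this, ← Finset.sum_add_distrib]
    refine Finset.sum_le_sum fun ν hν => ?_
    split_ifs with hh
    · subst hh
      exact h _ _ (by rw [Matrix.sub_apply, one_apply_ne h₀, sub_zero]; exact e _ hν)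
    · exact h0 _ _ (e ν hν)

theorem dI_le (I : Fin m → Fin w) : 0 ≤ dI w m I ∧ dI w m I ≤ m * (w - 1 : ℤ) := by
  refine ⟨Finset.sum_nonneg fun _ _ => by positivity, ?_⟩
  have := Finset.sum_le_card_nsmul Finset.univ (fun ν => ((I ν : ℕ) : ℤ)) (w - 1 : ℤ)
    fun ν _ => by have := (I ν).2; omega
  simpa [dI] using this

theorem geom_char {R : Type*} [Ring R] [Algebra F R] (p : ℕ) [hp : Fact p.Prime] [CharP F p]
    (y : R) : ∑ i ∈ Finset.range p, y ^ i = (y - 1) ^ (p - 1) := by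
  have h1 : ∑ i ∈ Finset.range p, (Polynomial.X : Polynomial F) ^ i =
      (Polynomial.X - 1) ^ (p - 1) := by
    have h0 : (Polynomial.X - 1 : Polynomial F) ≠ 0 := by
      simpa using Polynomial.X_sub_C_ne_zero (1 : F)
    apply mul_right_cancel₀ h0
    rw [geom_sum_mul, ← pow_succ, Nat.sub_add_cancel hp.out.one_le, sub_pow_char, one_pow]
  simpa [map_sum] using congrArg (Polynomial.aeval y) h1

theorem conj_step {ι : Type*} [Fintype ι] [DecidableEq ι] {deg : ι → ℤ} {c d : ℤ}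
    {R R' A : Matrix ι ι F} (h : R * R' = 1) (h1 : R - 1 ∈ Fl F deg c) (h2 : R' ∈ Fl F deg 0)
    (hA : A ∈ Fl F deg d) : R * A * R' - A ∈ Fl F deg (d + c) := by
  have e : R * A * R' - A = (R - 1) * A * R' - A * (R - 1) * R' := by
    rw [mul_assoc A, sub_mul R 1 R', h]; noncomm_ring
  rw [e]
  exact sub_mem (Fl_anti (by omega) (Fl_mul (Fl_mul h1 hA) h2))
    (Fl_anti (by omega) (Fl_mul (Fl_mul hA h1) h2))

theorem pow_step {M : Type*} [AddCommGroup M] [Module F M] (N : ℤ → Submodule F M)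
    (D : Module.End F M) {c : ℤ} (hD : ∀ d, ∀ A ∈ N d, D A ∈ N (d + c)) (k : ℕ) :
    ∀ d, ∀ A ∈ N d, (D ^ k) A ∈ N (d + k * c) := by
  induction k with
  | zero => intro d A hA; simpa using hA
  | succ k ih =>
    intro d A hA
    rw [pow_succ', Module.End.mul_apply]
    convert hD _ _ (ih d A hA) using 2
    push_cast; ring

/-- The transfer lemma. -/
theorem ten {G : Type*} [Group G] [Finite G] (p : ℕ) [hp : Fact p.Prime] [CharP F p]
    (ρ : G →* Matrix (Fin w) (Fin w) F) (B A : Subgroup G) (hAB : A ≤ B)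
    (free : ∀ u ∈ A, ∀ g, g⁻¹ * u * g ∈ B → u = 1 ∨ g ∈ B) {s x : G} {r : ℕ} (hr : r = 1 ∨ r = p)
    (hs : Ex 1 (ρ s - 1)) (hs' : ρ s⁻¹ ∈ L F w 0) (hx : ρ x - 1 ∈ L F w 2)
    (hx' : ρ x⁻¹ ∈ L F w 0) (ψ : Fin p × Fin r ≃ A)
    (hψ : ∀ ij, (ψ ij : G) = s ^ (ij.1 : ℕ) * x ^ (ij.2 : ℕ))
    {t : Matrix (Fin w) (Fin w) F} (ht : Ex 1 t) {e : ℕ}
    (hB : ∀ b ∈ B, ∃ a : F, a ^ e = 1 ∧ ρ b * t = a • (t * ρ b)) (hw : 2 ≤ w)
    (h1 : m * (w - 1) < e) (h2 : e ≤ (m + 1) * (w - 1))
    (h3 : e + (m + 1) * (w - 1) < (p - 1) + 2 * (r - 1)) :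
    ∃ a, 0 < a ∧ a < w ∧ ∀ g, Zr a a (ρ g) := by
  classical
  have := Fintype.ofFinite (G ⧸ B)
  have := Fintype.ofFinite A
  obtain ⟨j, hj, hje⟩ := exists_parts (w - 1) (m + 1) e h2
  let R : G →* Matrix (Fin (m + 1) → Fin w) (Fin (m + 1) → Fin w) F :=
    { toFun := fun g => kp fun _ => ρ g
      map_one' := by simp only [map_one]; exact kp_one
      map_mul' := fun g h => by simp only [map_mul]; exact (kp_mul _ _).symm }
  have hR : ∀ g, R g = kp fun _ => ρ g := fun _ => rfl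
  have hRR : ∀ g, R g * R g⁻¹ = 1 := fun g => by rw [← map_mul, mul_inv_cancel, map_one]
  let π : G →* Module.End F (Matrix (Fin (m + 1) → Fin w) (Fin (m + 1) → Fin w) F) :=
    { toFun := fun g => LinearMap.mulLeftRight F (R g, R g⁻¹)
      map_one' := by ext1 A; simp
      map_mul' := fun g h => by
        ext1 A; simp [_root_.mul_inv_rev, mul_assoc] }
  have hπ : ∀ g A, π g A = R g * A * R g⁻¹ := fun _ _ => rfl
  let T := kp fun ν => t ^ j ν
  have hT : T ∈ Fl F (dI w (m + 1)) e := by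
    have := kp_mem fun ν => (ht.pow (j ν)).mem
    rwa [← Nat.cast_sum, hje] at this
  have hTB : ∀ b ∈ B, π b T = T := fun b hb => by
    obtain ⟨a, ha, hb'⟩ := hB b hb
    have e1 : ∀ k, ρ b * t ^ k = a ^ k • (t ^ k * ρ b) := fun k => by
      induction k with
      | zero => simp
      | succ k ih =>
        rw [pow_succ, ← mul_assoc, ih, smul_mul_assoc, mul_assoc, hb', mul_smul_comm, smul_smul,
          ← pow_succ, ← mul_assoc]
    have e2 : R b * T = T * R b := by
      rw [hR, kp_mul, kp_mul]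
      simp only [e1]
      rw [kp_smul, Finset.prod_pow_eq_pow_sum, hje, ha, one_smul]
    rw [hπ, e2, mul_assoc, hRR, mul_one]
  have hφ : ∀ g, ∀ b ∈ B, π (g * b) T = π g T := fun g b hb => by
    rw [map_mul, Module.End.mul_apply, hTB b hb]
  set T' := ∑ q : G ⧸ B, π q.out T with hT'
  have hinv : ∀ g, R g * T' = T' * R g := fun g => by
    have : π g T' = T' := by
      rw [hT', map_sum, ← sum_out B (fun g => π g T) hφ g]
      exact Finset.sum_congr rfl fun q _ => by rw [map_mul, Module.End.mul_apply]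
    conv_rhs => rw [← this, hπ, mul_assoc, ← map_mul, inv_mul_cancel, map_one, mul_one]
  have hdeep : T' - T ∈ Fl F (dI w (m + 1)) (e + 1) := by
    have e0 : π ((1 : G) : G ⧸ B).out T = T :=
      hTB _ (by simpa using QuotientGroup.eq.1 (QuotientGroup.out_eq' ((1 : G) : G ⧸ B)))
    rw [hT', ← Finset.add_sum_erase _ _ (Finset.mem_univ ((1 : G) : G ⧸ B)), e0,
      add_sub_cancel_left]
    have hne : ∀ q : G ⧸ B, q ≠ ((1 : G) : G ⧸ B) ↔ q.out ∉ B := fun q => by
      conv_lhs => rw [← q.out_eq', Ne, eq_comm, QuotientGroup.eq]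
      simp
    refine sum_free (A := A) (fun q : G ⧸ B => π q.out T) (Fl F _ _).toAddSubmonoid
      (fun q => ?_) _ (fun q hq u => ?_) fun q hq u hu => ?_
    · have e1 : ∀ u : A, π (u • q).out T = π u (π q.out T) := fun u => by
        have : ((u : G) * q.out)⁻¹ * ((u : G) • q).out ∈ B := by
          rw [← QuotientGroup.eq, QuotientGroup.out_eq', ← smul_eq_mul,
            MulAction.Quotient.mk_smul_out]
        rw [← Module.End.mul_apply, ← map_mul, ← hφ ((u : G) * q.out) _ this, mul_inv_cancel_left]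
        rfl
      simp only [e1]
      have hm : π q.out T ∈ Fl F (dI w (m + 1)) (-((m + 1 : ℕ) * (w - 1 : ℤ))) := fun I J _ => by
        have := dI_le I
        have := dI_le J
        omega
      generalize π q.out T = Y at hm
      rw [← ψ.sum_comp, Fintype.sum_prod_type]
      simp only [hψ, map_mul, map_pow, Module.End.mul_apply]
      have a1 := pow_step (Fl F (dI w (m + 1))) (π s - 1) (c := 1) fun d A hA =>
        conj_step (hRR s) (kp_sub_one le_rfl hs.mem) (by simpa [hR] using kp_mem fun _ => hs') hA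
      have a2 := pow_step (Fl F (dI w (m + 1))) (π x - 1) (c := 2) fun d A hA =>
        conj_step (hRR x) (kp_sub_one (by norm_num) hx) (by simpa [hR] using kp_mem fun _ => hx') hA
      have a3 : ∑ i : Fin r, (π x ^ (i : ℕ)) = (π x - 1) ^ (r - 1) := by
        rcases hr with rfl | rfl
        · simp
        · rw [← geom_char (F := F) r, Finset.sum_range]
      simp only [← map_sum]
      rw [← LinearMap.sum_apply, ← LinearMap.sum_apply, a3, ← Finset.sum_range, geom_char (F := F) p]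
      refine Fl_anti ?_ (a1 _ _ _ (a2 _ _ _ hm))
      have : ((w - 1 : ℕ) : ℤ) = w - 1 := by omega
      rw [← this]
      exact_mod_cast (by omega : (e : ℤ) + 1 ≤ -(((m + 1) * (w - 1) : ℕ) : ℤ) +
        ((r - 1 : ℕ) : ℤ) * 2 + ((p - 1 : ℕ) : ℤ) * 1)
    · rw [Finset.mem_erase] at hq ⊢
      refine ⟨fun e => hq.1 ?_, Finset.mem_univ _⟩
      rw [← inv_smul_smul u q, e]
      exact QuotientGroup.eq.2 (by simpa using hAB u.2)
    · rw [Finset.mem_erase, hne] at hq
      have : (q.out)⁻¹ * u * q.out ∈ B := by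
        rw [mul_assoc, ← QuotientGroup.eq, ← smul_eq_mul, MulAction.Quotient.mk_smul_out,
          QuotientGroup.out_eq']
        exact hu.symm
      exact Subtype.ext ((free u u.2 _ this).resolve_right hq.1)
  have hT'e : T' ∈ Fl F (dI w (m + 1)) e := by
    simpa using add_mem (Fl_anti (by omega) hdeep) hT
  let I₀ : Fin (m + 1) → Fin w := fun ν => ⟨j ν, by have := hj ν; omega⟩
  let J₀ : Fin (m + 1) → Fin w := fun _ => ⟨0, by omega⟩
  have hne : T' I₀ J₀ ≠ 0 := by
    have e1 := Fl_zero_of hdeep (i := I₀) (j := J₀) (by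
      simp only [dI, I₀, J₀]
      rw [← Nat.cast_sum, hje]; simp)
    rw [Matrix.sub_apply, sub_eq_zero] at e1
    rw [e1]
    change ∏ ν, (t ^ j ν) (I₀ ν) (J₀ ν) ≠ 0
    exact Finset.prod_ne_zero_iff.2 fun ν _ => (ht.pow (j ν)).ne _ _ (by simp [I₀, J₀])
  let C : Submodule F (Fin w → F) :=
    { carrier := {v | ∀ g, (ρ g *ᵥ v) ⟨0, by omega⟩ = 0}
      zero_mem' := fun g => by simp
      add_mem' := fun {a b} ha hb g => by rw [mulVec_add, Pi.add_apply, ha g, hb g, add_zero]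
      smul_mem' := fun c a ha g => by rw [mulVec_smul, Pi.smul_apply, ha g, smul_zero] }
  have hC : ∀ g, ∀ v ∈ C, ρ g *ᵥ v ∈ C := fun g v hv g' => by
    rw [mulVec_mulVec, ← map_mul]; exact hv _
  have hv : (fun i => T' (Fin.cons i (Fin.tail I₀)) J₀) ∈ C := fun g => by
    have e1 : (kp (Fin.cons (ρ g) fun _ => 1) * T' : Matrix _ _ F) (Fin.cons ⟨0, by omega⟩ (Fin.tail I₀)) J₀ =
        (ρ g *ᵥ fun i => T' (Fin.cons i (Fin.tail I₀)) J₀) ⟨0, by omega⟩ := by
      rw [mul_apply, ← (Fin.consEquiv fun _ => Fin w).sum_comp, Fintype.sum_prod_type, mulVec,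
        dotProduct]
      refine Finset.sum_congr rfl fun i _ => ?_
      rw [Finset.sum_eq_single (Fin.tail I₀) (fun K _ hK => ?_) (by simp)]
      · simp [kp_apply, Fin.prod_univ_succ, Fin.consEquiv]
      · obtain ⟨ν, hν⟩ := Function.ne_iff.1 hK
        rw [kp_apply, Finset.prod_eq_zero (Finset.mem_univ ν.succ), zero_mul]
        simpa [Fin.consEquiv] using one_apply_ne hν.symm
    have e2 : kp (Fin.cons (ρ g) fun _ => 1) = kp (Fin.cons 1 fun _ => ρ g⁻¹) * R g := by
      rw [hR, kp_mul]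
      congr 1
      funext ν
      refine Fin.cases ?_ (fun ν => ?_) ν
      · simp
      · simp [← map_mul]
    rw [← e1, e2, mul_assoc, hinv, mul_apply]
    refine Finset.sum_eq_zero fun K _ => ?_
    by_cases hK : K 0 = ⟨0, by omega⟩
    · rw [mul_apply, Finset.sum_eq_zero fun K' _ => ?_, mul_zero]
      rw [Fl_zero_of hT'e, zero_mul]
      have e3 := (dI_le K').1
      have e4 := (dI_le (Fin.tail K)).2
      have e5 : dI w (m + 1) K = dI w m (Fin.tail K) := by
        rw [dI, Fin.sum_univ_succ, hK]; simp [dI, Fin.tail]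
      have : ((w - 1 : ℕ) : ℤ) = w - 1 := by omega
      rw [← this] at e4
      have : ((m * (w - 1) : ℕ) : ℤ) < e := by exact_mod_cast h1
      push_cast at this
      omega
    · rw [kp_apply, Finset.prod_eq_zero (Finset.mem_univ 0), zero_mul]
      simpa using one_apply_ne (Ne.symm hK)
  obtain ⟨a, ha, hCa⟩ := exists_flag hs C (fun v hv => by
    rw [sub_mulVec, one_mulVec]; exact sub_mem (hC s v hv) hv) fun e => hne (by
      have := congrFun ((Submodule.mem_bot F).1 (e ▸ hv)) (I₀ 0)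
      simpa using this)
  refine ⟨a, Nat.pos_of_ne_zero fun e => ?_, ha, fun g i l hi hl => ?_⟩
  · have := (hCa (fun _ => 1)).2 (fun i hi => by omega) 1
    simp at this
  · have := (hCa _).1 (hC g (Pi.single l 1) ((hCa _).2 fun i hi =>
      Pi.single_eq_of_ne (fun e => by rw [e] at hi; omega) _)) i hi
    simpa using this

end Cfsg.Agent.MCE
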